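import Groth.Agent.H10Coh.Kunneth.Alg

/-!
# Pairings with a second factor concentrated in degree zero
-/

set_option autoImplicit false

universe u

open TensorProduct

namespace Groth.Agent.H10Coh.Kunneth

variable {A : Type u} [CommRing A]
  {P E W : ℕ → Type u} [∀ i, AddCommGroup (P i)] [∀ i, Module A (P i)] [∀ i, AddCommGroup (E i)]
  [∀ i, Module A (E i)] [∀ i, AddCommGroup (W i)] [∀ i, Module A (W i)]
  (θ : ∀ p q n : ℕ, p + q = n → (P p →ₗ[A] E q →ₗ[A] W n))

theorem bijective_lof_zero (hE : ∀ q, Subsingleton (E (q + 1))) :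
    Function.Bijective (DirectSum.lof A ℕ E 0) := by
  refine ⟨fun a b h => by simpa using congrArg (fun z : DirectSum ℕ E => z 0) h, fun z => ⟨z 0, DFinsupp.ext fun q => ?_⟩⟩
  cases q with
  | zero => simp
  | succ q => exact (hE q).elim _ _

theorem bijective_tmap {F G : ℕ → Type u} [∀ i, AddCommGroup (F i)] [∀ i, Module A (F i)]
    [∀ i, AddCommGroup (G i)] [∀ i, Module A (G i)] (f : ∀ q, F q →ₗ[A] G q) (h : ∀ q, Function.Bijective (f q)) :
    Function.Bijective (tmap f) := by
  let e := fun q => LinearEquiv.ofBijective (f q) (h q)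
  refine ⟨fun a b hab => ?_, fun z => ⟨tmap (fun q => (e q).symm.toLinearMap) z, ?_⟩⟩
  · refine DFinsupp.ext fun q => (h q).1 ?_
    rw [← tmap_apply f a q, ← tmap_apply f b q, hab]
  · refine DFinsupp.ext fun q => ?_
    rw [tmap_apply, tmap_apply]
    exact (e q).apply_symm_apply _

/-- A second factor concentrated in degree zero. -/
theorem bijective_Θ_of_concentrated (hE : ∀ q, Subsingleton (E (q + 1)))
    (h : ∀ p, Function.Bijective (TensorProduct.lift (θ p 0 p (add_zero p)))) : Function.Bijective (Θ θ) := by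
  let l := LinearEquiv.ofBijective (DirectSum.lof A ℕ E 0) (bijective_lof_zero hE)
  let e : (DirectSum ℕ fun p => P p ⊗[A] E 0) ≃ₗ[A] (DirectSum ℕ P) ⊗[A] (DirectSum ℕ E) :=
    (TensorProduct.directSumLeft A A P (E 0)).symm ≪≫ₗ TensorProduct.congr (LinearEquiv.refl A _) l
  have key : (Θ θ).comp e.toLinearMap = tmap fun p => TensorProduct.lift (θ p 0 p (add_zero p)) := by
    refine DirectSum.linearMap_ext A fun p => TensorProduct.ext' fun x y => ?_
    simp [e, l]
  exact (Function.Bijective.of_comp_iff (Θ θ) e.bijective).1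
    (by rw [← LinearEquiv.coe_coe, ← LinearMap.coe_comp, key]; exact bijective_tmap _ h)

end Groth.Agent.H10Coh.Kunneth
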