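import Groth.Agent.LeadBC.Basic
import Groth.Agent.H10Coh.Proper

/-!
# Affine covers of schemes with affine diagonal over an affine base
-/

set_option autoImplicit false
set_option linter.style.haveILetI false

universe u

open CategoryTheory CategoryTheory.Limits AlgebraicGeometry TopologicalSpace

namespace Groth.Agent.H10Coh.Kunneth

theorem isAffineHom_diagonal_terminal (A : Type u) [CommRing A] (X : Scheme.{u}) [X.Over (Spec (CommRingCat.of A))] [IsAffineHom (pullback.diagonal (X ↘ Spec (CommRingCat.of A)))] : IsAffineHom (pullback.diagonal (terminal.from X)) := by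
  rw [← terminal.comp_from (X ↘ Spec (CommRingCat.of A))]
  exact MorphismProperty.comp_mem (W := MorphismProperty.diagonal @IsAffineHom) _ _
    (inferInstanceAs (IsAffineHom (pullback.diagonal (X ↘ Spec (CommRingCat.of A)))))
    (inferInstanceAs (IsAffineHom (pullback.diagonal (terminal.from (Spec (CommRingCat.of A))))))

theorem quasiSeparated_of_affine_diagonal (A : Type u) [CommRing A] (X : Scheme.{u}) [X.Over (Spec (CommRingCat.of A))] [IsAffineHom (pullback.diagonal (X ↘ Spec (CommRingCat.of A)))] : QuasiSeparated (X ↘ Spec (CommRingCat.of A)) := ⟨inferInstance⟩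

theorem exists_goodCover_diag (A : Type u) [CommRing A] {X : Scheme.{u}} [X.Over (Spec (CommRingCat.of A))] [IsAffineHom (pullback.diagonal (X ↘ Spec (CommRingCat.of A)))]
    [QuasiCompact (X ↘ Spec (CommRingCat.of A))] :
    ∃ (ι : Type u) (_ : Finite ι) (U : ι → X.Opens), LeadBC.GoodCover U := by
  haveI := isAffineHom_diagonal_terminal A X
  haveI : CompactSpace X := QuasiCompact.compactSpace_of_compactSpace (X ↘ Spec (CommRingCat.of A))
  obtain ⟨k, U, hU, -, hcov⟩ := H10Coh.exists_finite_affine_cover (W := (⊤ : X.Opens))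
    (by simpa using isCompact_univ)
  exact ⟨ULift.{u} (Fin k), inferInstance, fun i => U i.down,
    ⟨fun p a => IsAffineOpen.iInf fun i => hU _, hcov.trans (iSup_le fun j =>
      le_iSup (fun i : ULift.{u} (Fin k) => U i.down) ⟨j⟩)⟩⟩

theorem isAffineHom_fromSpec (A : Type u) [CommRing A] {X : Scheme.{u}} [X.Over (Spec (CommRingCat.of A))] [IsAffineHom (pullback.diagonal (X ↘ Spec (CommRingCat.of A)))]
    {W : X.Opens} (hW : IsAffineOpen W) : IsAffineHom hW.fromSpec := by
  haveI := isAffineHom_diagonal_terminal A X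
  haveI : IsAffineHom W.ι := isAffineHom_of_forall_exists_isAffineOpen W.ι fun x => by
    obtain ⟨V, hV, hxV, -⟩ := Opens.isBasis_iff_nbhd.1 X.isBasis_affineOpens (show x ∈ (⊤ : X.Opens) from trivial)
    refine ⟨V, hxV, hV, (Scheme.Hom.isAffineOpen_iff_of_isOpenImmersion W.ι).1 ?_⟩
    rw [Scheme.Hom.image_preimage_eq_opensRange_inf, Scheme.Opens.opensRange_ι]
    exact hW.inf hV
  exact inferInstanceAs (IsAffineHom (hW.isoSpec.inv ≫ W.ι))

end Groth.Agent.H10Coh.Kunneth
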