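import Groth.Agent.LeadTBC.Pairing
import Groth.Agent.LeadResProp.Basic
import Groth.Agent.H10Coh.MulSections
import Groth.Agent.H22Alg.KosTwist
import Groth.Agent.H10Coh.FreeSec.BaseChange
import Groth.Agent.H24Formal.Pullback
import Groth.Agent.LeadFF.Gen
import Groth.Prelude.Def_SecTwist

/-!
# The external product with the direct image of a structure sheaf

For a square `g₂ : XT ⟶ T` over `τ : T ⟶ X₂` with `g : XT ⟶ X` affine and `F` on `X`,
`F ⊗ p₂^*(τ_* O) ≅ g_* g^* F`, compatibly with units and scalars.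
-/

set_option autoImplicit false
set_option linter.style.haveILetI false
set_option linter.unusedSectionVars false
set_option backward.isDefEq.respectTransparency.types false

noncomputable section

universe u

open CategoryTheory CategoryTheory.Limits AlgebraicGeometry Opposite TopologicalSpace MonoidalCategory
open Groth.Agent.H11Ample Groth.Agent.H22Alg.CMField Groth.Agent.H10Coh

local notation "pullback" => Scheme.Modules.pullback
local notation "pushforward" => Scheme.Modules.pushforward

namespace Groth.Agent.H10Coh.Kunneth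

open AlgebraicGeometry.Scheme.Modules (pullbackPushforwardAdjunction)
open Groth.Agent.H16Derived.KFlat.Stalk (structurePullbackIso)
open Groth.Agent.LeadResProp (pushO unitTensor)

section one

variable {X Y : Scheme.{u}} (f : X ⟶ Y)

/-- The section `1` of `f_* O`. -/
def one : Coh.structureModule Y ⟶ (pushforward f).obj (Coh.structureModule X) :=
  (pullbackPushforwardAdjunction f).homEquiv _ _ (structurePullbackIso f).hom

theorem spi_pullSect (U : Y.Opens) (r : Γ(Coh.structureModule Y, U)) :
    (structurePullbackIso f).hom.app (f ⁻¹ᵁ U) (OmegaSh.pullSect f (Coh.structureModule Y) U r) =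
      f.app U (show Γ(Y, U) from r) := by
  have h := SheafOfModules.pullbackPushforwardAdjunction_homEquiv_pullbackObjUnitToUnit.{u} f.toRingCatSheafHom
  rw [Adjunction.homEquiv_unit] at h
  exact congr($(congrArg (fun k => Scheme.Modules.Hom.app k U) h) r)

theorem one_app (U : Y.Opens) (r : Γ(Coh.structureModule Y, U)) :
    (one f).app U r = f.app U (show Γ(Y, U) from r) := by
  rw [one, Adjunction.homEquiv_unit]
  exact spi_pullSect f U r

/-- Maps out of the structure module agree if they agree on `1`. -/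
theorem hom_ext_one {M : Y.Modules} (a b : Coh.structureModule Y ⟶ M)
    (h : ∀ U : Y.Opens, a.app U (show Γ(Coh.structureModule Y, U) from (1 : Γ(Y, U))) =
      b.app U (show Γ(Coh.structureModule Y, U) from (1 : Γ(Y, U)))) : a = b :=
  LeadFF.hom_ext_sections _ _ fun U r => by
    have e : (show Γ(Y, U) from r) • (show Γ(Coh.structureModule Y, U) from (1 : Γ(Y, U))) = r :=
      mul_one (show Γ(Y, U) from r)
    rw [← e, a.app_smul, b.app_smul, h]

end one

variable {X X₂ T XT : Scheme.{u}} {p₂ : X ⟶ X₂} {τ : T ⟶ X₂} {g : XT ⟶ X} {g₂ : XT ⟶ T}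
  (h : IsPullback g₂ g τ p₂)

/-- `p₂^* τ_* O ⟶ g_* O`. -/
def κ : (pullback p₂).obj ((pushforward τ).obj (Coh.structureModule T)) ⟶ pushO g :=
  FreeSec.BC.bc h (Coh.structureModule T) ≫ (pushforward g).map (structurePullbackIso g₂).hom

theorem isIso_κ [IsAffineHom τ] : IsIso (κ h) := by
  haveI : (Coh.structureModule T).IsQuasicoherent := H10Coh.isQuasicoherent_unit
  haveI := FreeSec.BC.isIso_bc_of_isAffineHom h (Coh.structureModule T)
  rw [κ]
  infer_instance

theorem one_κ : (pullback p₂).map (one τ) ≫ κ h = (structurePullbackIso p₂).hom ≫ one g := by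
  apply ((pullbackPushforwardAdjunction p₂).homEquiv _ _).injective
  rw [Adjunction.homEquiv_naturality_left, κ, Adjunction.homEquiv_naturality_right,
    Adjunction.homEquiv_naturality_right]
  rw [show ((pullbackPushforwardAdjunction p₂).homEquiv _ _) (FreeSec.BC.bc h (Coh.structureModule T)) =
    CohBC.bc0Adj τ p₂ g g₂ h.w (Coh.structureModule T) from Equiv.apply_symm_apply _ _]
  refine hom_ext_one _ _ fun U => ?_
  have h₁ := FBC.τPush_app h ((pullbackPushforwardAdjunction g₂).unit.app (Coh.structureModule T)) U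
    (show Γ((pushforward τ).obj (Coh.structureModule T), U) from (1 : Γ(T, τ ⁻¹ᵁ U)))
  rw [← FreeSec.BC.bc0Adj_eq] at h₁
  show ((structurePullbackIso g₂).hom.app (g ⁻¹ᵁ (p₂ ⁻¹ᵁ U)))
      ((CohBC.bc0Adj τ p₂ g g₂ h.w (Coh.structureModule T)).app U ((one τ).app U _)) =
    (one g).app (p₂ ⁻¹ᵁ U) ((one p₂).app U _)
  rw [one_app, one_app, one_app, map_one (τ.app U).hom, map_one (p₂.app U).hom, map_one (g.app (p₂ ⁻¹ᵁ U)).hom]
  refine (congrArg _ h₁).trans ?_
  rw [H10Coh.app_rs]
  refine (congrArg _ ((spi_pullSect g₂ (τ ⁻¹ᵁ U) _).trans (map_one (g₂.app (τ ⁻¹ᵁ U)).hom))).trans ?_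
  exact map_one (XT.presheaf.map _).hom

variable (F : X.Modules)

/-- `F ⊗ p₂^* O ≅ F`. -/
def uIso : (LeadTBC.Φ p₂ F).obj (Coh.structureModule X₂) ≅ F :=
  ((DCoh.tensorBi (X := X)).obj F).mapIso (structurePullbackIso p₂) ≪≫ SecTwist.unitorR F

/-- `F ⊗ p₂^* τ_* O ⟶ g_* g^* F`. -/
def γ : (LeadTBC.Φ p₂ F).obj ((pushforward τ).obj (Coh.structureModule T)) ⟶
    (pushforward g).obj ((pullback g).obj F) :=
  ((DCoh.tensorBi (X := X)).obj F).map (κ h) ≫ (tensorCommIso F (pushO g)).hom ≫ unitTensor g F

theorem isIso_γ [IsAffineHom τ] (hF : Coh.IsQCoh F) : IsIso (γ h F) := by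
  haveI := isIso_κ h
  haveI : IsAffineHom g := MorphismProperty.of_isPullback (P := @IsAffineHom) h inferInstance
  haveI := LeadResProp.isIso_unitTensor g F hF
  rw [γ]
  infer_instance

theorem map_tm_biTensor {M N : X.Modules} (ψ : M ⟶ N) {U : X.Opens} (m : Γ(F, U)) (e : Γ(M, U)) :
    (((DCoh.tensorBi (X := X)).obj F).map ψ).app U (tm m e) = tm m (ψ.app U e) :=
  H10Coh.SheafHom.map_tensorSect ψ U m e

theorem γ_tm {U : X.Opens} (y : Γ(F, U)) (z : Γ((pullback p₂).obj ((pushforward τ).obj (Coh.structureModule T)), U)) :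
    (γ h F).app U (tm y z) = LeadResProp.sm g F ((κ h).app U z) (OmegaSh.pullSect g F U y) := by
  show (unitTensor g F).app U ((tensorCommIso F (pushO g)).hom.app U
    ((((DCoh.tensorBi (X := X)).obj F).map (κ h)).app U (tm y z))) = _
  rw [map_tm_biTensor, MulSections.comm_tm, LeadResProp.unitTensor_tm]

theorem one_γ : (LeadTBC.Φ p₂ F).map (one τ) ≫ γ h F =
    (uIso F).hom ≫ (pullbackPushforwardAdjunction g).unit.app F := by
  refine H10Coh.SheafHom.tensor_ext fun U y z => ?_
  show (γ h F).app U ((((DCoh.tensorBi (X := X)).obj F).map ((pullback p₂).map (one τ))).app U (tm y z)) =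
    OmegaSh.pullSect g F U ((SecTwist.unitorR F).hom.app U
      ((((DCoh.tensorBi (X := X)).obj F).map (structurePullbackIso p₂).hom).app U (tm y z)))
  rw [map_tm_biTensor, map_tm_biTensor, γ_tm,
    show (κ h).app U (((pullback p₂).map (one τ)).app U z) = (one g).app U ((structurePullbackIso p₂).hom.app U z)
      from congr($(congrArg (fun k => Scheme.Modules.Hom.app k U) (one_κ h)) z),
    one_app]
  refine Eq.trans ?_ (congrArg _ (SecTwist.unitorR_tmul F U y ((structurePullbackIso p₂).hom.app U z)).symm)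
  exact (OmegaSh.pullSect_smul g F U _ y).symm

variable {S : Type u} [CommRing S] [T.Over (Spec (CommRingCat.of S))] [XT.Over (Spec (CommRingCat.of S))]
  (hT : g₂ ≫ (T ↘ Spec (CommRingCat.of S)) = (XT ↘ Spec (CommRingCat.of S)))

include hT in
theorem smul_κ (s : S) :
    (pullback p₂).map ((pushforward τ).map (Formal.smulMod S (Coh.structureModule T) s)) ≫ κ h =
      κ h ≫ (pushforward g).map (Formal.smulMod S (Coh.structureModule XT) s) := by
  rw [κ, ← Category.assoc, FreeSec.BC.bc_naturality h, Category.assoc, Category.assoc, ← Functor.map_comp,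
    ← Functor.map_comp, H24Formal.pullback_map_smulMod g₂ hT, LeadFF.smulMod_natural]

include hT in
theorem smul_γ (s : S) :
    (LeadTBC.Φ p₂ F).map ((pushforward τ).map (Formal.smulMod S (Coh.structureModule T) s)) ≫ γ h F =
      γ h F ≫ (pushforward g).map (Formal.smulMod S ((pullback g).obj F) s) := by
  refine H10Coh.SheafHom.tensor_ext fun U y z => ?_
  show (γ h F).app U ((((DCoh.tensorBi (X := X)).obj F).map ((pullback p₂).map
      ((pushforward τ).map (Formal.smulMod S (Coh.structureModule T) s)))).app U (tm y z)) =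
    (Formal.smulMod S ((pullback g).obj F) s).app (g ⁻¹ᵁ U) ((γ h F).app U (tm y z))
  rw [map_tm_biTensor, γ_tm, γ_tm,
    show (κ h).app U (((pullback p₂).map ((pushforward τ).map (Formal.smulMod S (Coh.structureModule T) s))).app U z) =
      (Formal.smulMod S (Coh.structureModule XT) s).app (g ⁻¹ᵁ U) ((κ h).app U z)
      from congr($(congrArg (fun k => Scheme.Modules.Hom.app k U) (smul_κ h hT s)) z)]
  exact mul_smul (α := Γ(XT, g ⁻¹ᵁ U)) (β := Γ((pullback g).obj F, g ⁻¹ᵁ U))
    _ (show Γ(XT, g ⁻¹ᵁ U) from (κ h).app U z) _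

variable {A : Type u} [CommRing A] [X.Over (Spec (CommRingCat.of A))] [X₂.Over (Spec (CommRingCat.of A))]
  (hp : p₂ ≫ (X₂ ↘ Spec (CommRingCat.of A)) = (X ↘ Spec (CommRingCat.of A)))

include hp in
theorem Φ_smulMod (G : X₂.Modules) (a : A) :
    (LeadTBC.Φ p₂ F).map (Formal.smulMod A G a) = Formal.smulMod A ((LeadTBC.Φ p₂ F).obj G) a := by
  refine H10Coh.SheafHom.tensor_ext fun U y z => ?_
  show (((DCoh.tensorBi (X := X)).obj F).map ((pullback p₂).map (Formal.smulMod A G a))).app U (tm y z) =
    (Formal.smulMod A ((LeadTBC.Φ p₂ F).obj G) a).app U (tm y z)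
  rw [map_tm_biTensor, H24Formal.pullback_map_smulMod p₂ hp, LeadFF.smulMod_app, LeadFF.smulMod_app]
  exact tm_smul_right _ y z

end Groth.Agent.H10Coh.Kunneth
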