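import Groth.Agent.H10Coh.Kunneth.Data
import Groth.Agent.H10Coh.Kunneth.Conc
import Groth.Agent.H10Coh.Kunneth.Geometry
import Groth.Agent.LeadBC.GenBC.FlatPull
import Groth.Agent.H10Coh.Affine
import Groth.Agent.H10Coh.Kunneth.Diag

/-!
# The Künneth pairing for the direct image of the structure sheaf of an affine scheme
-/

set_option autoImplicit false
set_option linter.style.haveILetI false
set_option linter.unusedSectionVars false
set_option backward.isDefEq.respectTransparency.types false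
set_option synthInstance.maxHeartbeats 400000
set_option maxHeartbeats 1000000

noncomputable section

universe u

open CategoryTheory CategoryTheory.Limits CategoryTheory.Abelian AlgebraicGeometry Opposite TopologicalSpace
open Groth.Agent.LeadFF (Hm Hm_comp Hm_smulMod smulMod_natural)
open scoped TensorProduct

namespace Groth.Agent.H10Coh.Kunneth

attribute [local instance 10000] H10Coh.hasSheafifyAb H10Coh.hasWeakSheafifyAb H10Coh.hasExtAb H10Coh.enoughInjAb

local notation "pullbackM" => Scheme.Modules.pullback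
local notation "pushforwardM" => Scheme.Modules.pushforward

section Scalars

variable {T Y : Scheme.{u}} (τ : T ⟶ Y) {A S : Type u} [CommRing A] [CommRing S] [Algebra A S]
  [Y.Over (Spec (CommRingCat.of A))] [T.Over (Spec (CommRingCat.of S))]
  (hτ : τ ≫ (Y ↘ Spec (CommRingCat.of A)) =
    (T ↘ Spec (CommRingCat.of S)) ≫ Spec.map (CommRingCat.ofHom (algebraMap A S)))

include hτ in
theorem pushforward_map_smulMod (N : T.Modules) (a : A) :
    (pushforwardM τ).map (Formal.smulMod S N (algebraMap A S a)) =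
      Formal.smulMod A ((pushforwardM τ).obj N) a := by
  have hg : Coh.toGlobal (T ↘ Spec (CommRingCat.of S)) (algebraMap A S a) =
      τ.appTop (Coh.toGlobal (Y ↘ Spec (CommRingCat.of A)) a) := by
    show (T ↘ Spec (CommRingCat.of S)).appTop ((Scheme.ΓSpecIso _).inv (algebraMap A S a)) =
      τ.appTop ((Y ↘ Spec (CommRingCat.of A)).appTop ((Scheme.ΓSpecIso _).inv a))
    have h1 := Scheme.ΓSpecIso_inv_naturality (CommRingCat.ofHom (algebraMap A S))
    rw [show (Scheme.ΓSpecIso (CommRingCat.of S)).inv (algebraMap A S a) =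
      (Spec.map (CommRingCat.ofHom (algebraMap A S))).appTop ((Scheme.ΓSpecIso (CommRingCat.of A)).inv a)
      from ConcreteCategory.congr_hom h1 a]
    have h2 := congrArg Scheme.Hom.appTop hτ
    rw [Scheme.Hom.comp_appTop, Scheme.Hom.comp_appTop] at h2
    exact (ConcreteCategory.congr_hom h2 _).symm
  refine LeadFF.hom_ext_sections _ _ fun U m => ?_
  show (T.presheaf.map (homOfLE (le_top : τ ⁻¹ᵁ U ≤ ⊤)).op
      (Coh.toGlobal (T ↘ Spec (CommRingCat.of S)) (algebraMap A S a))) • (show Γ(N, τ ⁻¹ᵁ U) from m) =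
    τ.app U (Y.presheaf.map (homOfLE (le_top : U ≤ ⊤)).op (Coh.toGlobal (Y ↘ Spec (CommRingCat.of A)) a)) •
      (show Γ(N, τ ⁻¹ᵁ U) from m)
  rw [hg]
  congr 1
  exact (congr($(τ.naturality (homOfLE (le_top : U ≤ ⊤)).op) (Coh.toGlobal (Y ↘ Spec (CommRingCat.of A)) a))).symm

/-- A scalar as an endomorphism of the structure module. -/
abbrev σ (s : S) : Coh.structureModule T ⟶ Coh.structureModule T := Formal.smulMod S (Coh.structureModule T) s

theorem σ_mul (c s : S) : σ (T := T) (c * s) = σ s ≫ σ c :=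
  LeadFF.hom_ext_sections _ _ fun U m => by
    show LeadFF.scal (T ↘ Spec (CommRingCat.of S)) U (c * s) • m =
      LeadFF.scal (T ↘ Spec (CommRingCat.of S)) U c • (LeadFF.scal (T ↘ Spec (CommRingCat.of S)) U s • m)
    rw [map_mul, mul_smul]

theorem bijective_σ [IsIso (T ↘ Spec (CommRingCat.of S))] : Function.Bijective (σ (T := T) (S := S)) := by
  haveI : IsIso (Scheme.Hom.appTop (T ↘ Spec (CommRingCat.of S))) :=
    inferInstanceAs (IsIso ((T ↘ Spec (CommRingCat.of S)).app ⊤))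
  have hb : Function.Bijective (Coh.toGlobal (T ↘ Spec (CommRingCat.of S))) :=
    (ConcreteCategory.bijective_of_isIso (T ↘ Spec (CommRingCat.of S)).appTop).comp
      (ConcreteCategory.bijective_of_isIso (Scheme.ΓSpecIso (CommRingCat.of S)).inv)
  have he : ∀ (s : S) (U : T.Opens), (σ (T := T) s).app U (show Γ(Coh.structureModule T, U) from (1 : Γ(T, U))) =
      (T.presheaf.map (homOfLE (le_top : U ≤ ⊤)).op (Coh.toGlobal (T ↘ Spec (CommRingCat.of S)) s) : Γ(T, U)) :=
    fun s U => mul_one (T.presheaf.map (homOfLE (le_top : U ≤ ⊤)).op (Coh.toGlobal (T ↘ Spec (CommRingCat.of S)) s))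
  refine ⟨fun s s' h => hb.1 ?_, fun φ => ?_⟩
  · have h1 := congr($(congrArg (fun k => Scheme.Modules.Hom.app k ⊤) h)
      (show Γ(Coh.structureModule T, ⊤) from (1 : Γ(T, ⊤))))
    rw [he, he] at h1
    simp at h1
    exact h1
  · obtain ⟨s, hs⟩ := hb.2 (show Γ(T, ⊤) from φ.app ⊤ (show Γ(Coh.structureModule T, ⊤) from (1 : Γ(T, ⊤))))
    refine ⟨s, hom_ext_one _ _ fun U => ?_⟩
    rw [he, hs]
    refine (congr($(φ.mapPresheaf.naturality (homOfLE (le_top : U ≤ ⊤)).op)
      (show Γ(Coh.structureModule T, ⊤) from (1 : Γ(T, ⊤))))).symm.trans ?_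
    exact congrArg (φ.app U) (map_one (T.presheaf.map (homOfLE (le_top : U ≤ ⊤)).op).hom)

end Scalars

variable {A : Type u} [CommRing A] {X₁ X₂ X : Scheme.{u}} [X₁.Over (Spec (CommRingCat.of A))]
  [X₂.Over (Spec (CommRingCat.of A))] [X.Over (Spec (CommRingCat.of A))] {p₁ : X ⟶ X₁} {p₂ : X ⟶ X₂}
  (hsq : IsPullback p₁ p₂ (X₁ ↘ Spec (CommRingCat.of A)) (X₂ ↘ Spec (CommRingCat.of A)))
  (hX : p₁ ≫ (X₁ ↘ Spec (CommRingCat.of A)) = (X ↘ Spec (CommRingCat.of A)))
  (F₁ : X₁.Modules)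

variable (p₁ p₂) in
/-- The exterior product with `F₁`. -/
abbrev ΦK : X₂.Modules ⥤ X.Modules := LeadTBC.Φ p₂ ((pullbackM p₁).obj F₁)

instance additive_ΦK : (ΦK p₁ p₂ F₁).Additive := by
  haveI : (pullbackM p₂).Additive := (Scheme.Modules.pullbackPushforwardAdjunction p₂).left_adjoint_additive
  infer_instance

include hsq in
theorem preservesFiniteLimits_ΦK (hfl : FlatMod.IsFlatOver (X₁ ↘ Spec (CommRingCat.of A)) F₁) :
    PreservesFiniteLimits (ΦK p₁ p₂ F₁) := by
  have hQ : FlatMod.IsFlatOver p₂ ((pullbackM p₁).obj F₁) :=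
    H16Derived.BaseChange.isFlatOver_pullback hsq hfl
  refine ((((ΦK p₁ p₂ F₁).exact_tfae).out 0 3 :
    _ ↔ PreservesFiniteLimits _ ∧ PreservesFiniteColimits _).mp fun T hT => ?_).1
  haveI := hT.mono_f
  haveI := hT.epi_g
  exact
    { exact := hT.exact.map_of_epi_of_preservesCokernel (ΦK p₁ p₂ F₁) hT.epi_g inferInstance
      mono_f := LeadTBC.mono_Φ_map _ hQ T.f
      epi_g := inferInstanceAs (Epi ((ΦK p₁ p₂ F₁).map T.g)) }

include hsq hX in
theorem ΦK_smulMod (G : X₂.Modules) (a : A) :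
    (ΦK p₁ p₂ F₁).map (Formal.smulMod A G a) = Formal.smulMod A ((ΦK p₁ p₂ F₁).obj G) a :=
  Φ_smulMod _ (hsq.w.symm.trans hX) G a

include hX in
/-- The classes pulled back from the first factor. -/
def εK (p : ℕ) : Coh.HH X₁ F₁ p →ₗ[A] Coh.HH X ((ΦK p₁ p₂ F₁).obj (Coh.structureModule X₂)) p where
  toFun x := Hm (uIso ((pullbackM p₁).obj F₁)).inv p (CohPull.pullMod p₁ F₁ p x)
  map_add' x y := by rw [map_add, map_add]
  map_smul' a x := by
    rw [RingHom.id_apply, ← Hm_smulMod, ← Hm_smulMod, LeadBC.GenBC.pullMod_natural,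
      H24Formal.pullback_map_smulMod p₁ hX]
    refine (Hm_comp _ _ p _).symm.trans (Eq.trans ?_ (Hm_comp _ _ p _))
    rw [smulMod_natural]

variable [HasExt.{u} X₂.Modules] [PreservesFiniteLimits (ΦK p₁ p₂ F₁)]

include hsq hX in
/-- The Künneth data. -/
abbrev kK : KData X₂.Modules A fun p => Coh.HH X₁ F₁ p :=
  kData (ΦK p₁ p₂ F₁) (ΦK_smulMod hsq hX F₁) (εK hX F₁)

variable [F₁.IsQuasicoherent] [QuasiCompact (X₁ ↘ Spec (CommRingCat.of A))]
  [IsAffineHom (pullback.diagonal (X₁ ↘ Spec (CommRingCat.of A)))]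
  (hfl : FlatMod.IsFlatOver (X₁ ↘ Spec (CommRingCat.of A)) F₁) (hH : ∀ p : ℕ, Module.Flat A (Coh.HH X₁ F₁ p))
  {T : Scheme.{u}} {S : Type u} [CommRing S] [Algebra A S] [T.Over (Spec (CommRingCat.of S))]
  [IsIso (T ↘ Spec (CommRingCat.of S))] (τ : T ⟶ X₂) [IsAffineHom τ]
  (hτ : τ ≫ (X₂ ↘ Spec (CommRingCat.of A)) =
    (T ↘ Spec (CommRingCat.of S)) ≫ Spec.map (CommRingCat.ofHom (algebraMap A S)))

include hsq hX hfl hH hτ in
theorem good_push : (kK hsq hX F₁).Good ((pushforwardM τ).obj (Coh.structureModule T)) := by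
  haveI : IsAffine T := IsAffine.of_isIso (T ↘ Spec (CommRingCat.of S))
  haveI : (Coh.structureModule T).IsQuasicoherent := H10Coh.isQuasicoherent_unit
  let G := (pushforwardM τ).obj (Coh.structureModule T)
  have hvan : ∀ q, Subsingleton (Coh.HH X₂ G (q + 1)) := fun q => by
    haveI := H10Coh.enoughInjMod T
    haveI := H10Coh.subsingleton_HH_of_isAffine (Coh.structureModule T) (Nat.succ_pos q)
    exact (H10Coh.bijective_pushEdge τ _ (H10Coh.isAcyclic_push_of_isAffineHom τ (Coh.structureModule T))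
      (q + 1)).1.subsingleton
  refine bijective_Θ_of_concentrated _ hvan fun p => ?_
  let F' := (pullbackM p₁).obj F₁
  let g₂ : Limits.pullback τ p₂ ⟶ T := Limits.pullback.fst τ p₂
  let g : Limits.pullback τ p₂ ⟶ X := Limits.pullback.snd τ p₂
  have h : IsPullback g₂ g τ p₂ := IsPullback.of_hasPullback τ p₂
  haveI : IsAffineHom g := MorphismProperty.of_isPullback (P := @IsAffineHom) h inferInstance
  letI : (Limits.pullback τ p₂).Over (Spec (CommRingCat.of S)) := ⟨g₂ ≫ (T ↘ Spec (CommRingCat.of S))⟩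
  have hq : IsPullback (g ≫ p₁) ((Limits.pullback τ p₂) ↘ Spec (CommRingCat.of S))
      (X₁ ↘ Spec (CommRingCat.of A)) (Spec.map (CommRingCat.ofHom (algebraMap A S))) :=
    (h.flip.paste_horiz hsq).of_iso (Iso.refl _) (Iso.refl _) (asIso (T ↘ Spec (CommRingCat.of S))) (Iso.refl _)
      (by simp) (by simp; rfl) (by simp) (by simp [hτ])
  haveI := quasiSeparated_of_affine_diagonal A X₁
  obtain ⟨ι, hι, U, hU⟩ := exists_goodCover_diag A (X := X₁)
  obtain ⟨N, hN⟩ := LeadBC.exists_bound_HH A X₁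
  obtain ⟨G₀, hG₀, hval⟩ := LeadBC.GenBC.exists_bijective_pullMod_of_cover (S := S) F₁ hq hU hN hfl hH p
  -- degree zero classes of the direct image
  let e : S →ₗ[A] Coh.HH X₂ G 0 :=
    { toFun := fun s => toH G 0 (Ext.mk₀ (one τ ≫ (pushforwardM τ).map (σ s)))
      map_add' := fun s s' => by
        rw [show σ (T := T) (s + s') = σ s + σ s' from LeadFF.smulMod_add _ s s', Functor.map_add,
          Preadditive.comp_add, Ext.mk₀_add, map_add]
      map_smul' := fun a s => by
        rw [RingHom.id_apply, Algebra.smul_def, σ_mul, Functor.map_comp, pushforward_map_smulMod τ hτ,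
          ← Category.assoc, ← Ext.mk₀_comp_mk₀, toH_comp_mk₀, Hm_smulMod] }
  have he : Function.Bijective e := by
    refine (toH G 0).bijective.comp ((Ext.mk₀_bijective _ _).comp ?_)
    have h1 : (fun s : S => one τ ≫ (pushforwardM τ).map (σ (T := T) s)) =
        ((Scheme.Modules.pullbackPushforwardAdjunction τ).homEquiv _ _) ∘
          (fun φ => (H16Derived.KFlat.Stalk.structurePullbackIso τ).hom ≫ φ) ∘ σ := funext fun s =>
      ((Scheme.Modules.pullbackPushforwardAdjunction τ).homEquiv_naturality_right _ _).symm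
    rw [h1]
    exact (Equiv.bijective _).comp ((Iso.homFromEquiv
      (H16Derived.KFlat.Stalk.structurePullbackIso τ).symm).bijective.comp bijective_σ)
  -- the edge map
  haveI := isIso_γ h F' (H29Fitt.isQCoh_pullback p₁ F₁ ‹_›)
  haveI : F'.IsQuasicoherent := H29Fitt.isQCoh_pullback p₁ F₁ ‹_›
  haveI : ((pullbackM g).obj F').IsQuasicoherent := H29Fitt.isQCoh_pullback g F' ‹_›
  haveI := H10Coh.enoughInjMod (Limits.pullback τ p₂)
  let j := (Scheme.Modules.pullbackComp g p₁).app F₁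
  let R : Coh.HH X ((ΦK p₁ p₂ F₁).obj G) p →+ Coh.HH (Limits.pullback τ p₂) (LeadBC.qF (g ≫ p₁) F₁) p :=
    (Hm j.hom p).comp ((CohPull.pushEdge g ((pullbackM g).obj F') p).comp (Hm (γ h F') p))
  have hR : Function.Bijective R :=
    (HHSeq.isoₗ (A := S) j p).bijective.comp ((H10Coh.bijective_pushEdge g _
      (H10Coh.isAcyclic_push_of_isAffineHom g ((pullbackM g).obj F')) p).comp
        (Function.bijective_iff_has_inverse.2 ⟨Hm (inv (γ h F')) p,
          fun z => by rw [← Hm_comp, IsIso.hom_inv_id, LeadFF.Hm_id],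
          fun z => by rw [← Hm_comp, IsIso.inv_hom_id, LeadFF.Hm_id]⟩))
  let L := TensorProduct.lift ((kK hsq hX F₁).θ G p 0 p (add_zero p))
  let E : Coh.HH X₁ F₁ p ⊗[A] S ≃ₗ[A] Coh.HH X₁ F₁ p ⊗[A] Coh.HH X₂ G 0 :=
    TensorProduct.congr (LinearEquiv.refl A _) (LinearEquiv.ofBijective e he)
  let C := TensorProduct.comm A S (Coh.HH X₁ F₁ p)
  have key : ∀ (s : S) (x : Coh.HH X₁ F₁ p), R (L (x ⊗ₜ e s)) = G₀ (s ⊗ₜ x) := fun s x => by
    rw [hval]
    have h1 : L (x ⊗ₜ e s) = Hm ((ΦK p₁ p₂ F₁).map (one τ ≫ (pushforwardM τ).map (σ s))) p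
        (Hm (uIso F').inv p (CohPull.pullMod p₁ F₁ p x)) :=
      cupAdd_mk₀ (ΦK p₁ p₂ F₁) p _ (εK hX F₁ p x)
    show Hm j.hom p (CohPull.pushEdge g _ p (Hm (γ h F') p (L (x ⊗ₜ e s)))) = _
    rw [h1]
    have h2 : (uIso (p₂ := p₂) F').inv ≫
        (ΦK p₁ p₂ F₁).map (one τ ≫ (pushforwardM τ).map (σ s)) ≫ γ h F' =
        (Scheme.Modules.pullbackPushforwardAdjunction g).unit.app F' ≫
          (pushforwardM g).map (Formal.smulMod S ((pullbackM g).obj F') s) := by
      rw [Functor.map_comp, Category.assoc, smul_γ h F' rfl, ← Category.assoc ((ΦK p₁ p₂ F₁).map (one τ)),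
        one_γ h F', Category.assoc, Iso.inv_hom_id_assoc]
    have h3 : ∀ y, Hm (γ h F') p (Hm ((ΦK p₁ p₂ F₁).map (one τ ≫ (pushforwardM τ).map (σ s))) p
        (Hm (uIso F').inv p y)) = Hm ((pushforwardM g).map (Formal.smulMod S ((pullbackM g).obj F') s)) p
          (Hm ((Scheme.Modules.pullbackPushforwardAdjunction g).unit.app F') p y) := fun y => by
      rw [← Hm_comp, ← Hm_comp, ← Hm_comp, h2]
    rw [h3]
    refine (congrArg (Hm j.hom p) (LeadBC.GenBC.pushEdge_natural (Formal.smulMod S ((pullbackM g).obj F') s) p _)).trans ?_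
    refine (congrArg (fun z => Hm j.hom p (Hm (Formal.smulMod S ((pullbackM g).obj F') s) p z))
      (LeadBC.GenBC.pullMod_eq_pushEdge (q := g) F' p _).symm).trans ?_
    rw [← Hm_comp, ← smulMod_natural, Hm_comp, Hm_smulMod]
    exact congrArg (s • ·) (LeadBC.GenBC.pullMod_comp g p₁ F₁ p x)
  let Φ₀ : S ⊗[A] Coh.HH X₁ F₁ p →+ Coh.HH (Limits.pullback τ p₂) (LeadBC.qF (g ≫ p₁) F₁) p :=
    R.comp (L.toAddMonoidHom.comp (E.toLinearMap.comp C.toLinearMap).toAddMonoidHom)
  have hcomp : ∀ z, Φ₀ z = G₀ z := fun z => by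
    induction z using TensorProduct.induction_on with
    | zero => exact (map_zero Φ₀).trans (map_zero G₀).symm
    | add a b ha hb => exact (map_add Φ₀ a b).trans ((congrArg₂ (· + ·) ha hb).trans (map_add G₀ a b).symm)
    | tmul s x => exact key s x
  refine (Function.Bijective.of_comp_iff L (E.bijective.comp C.bijective)).1 ?_
  refine (Function.Bijective.of_comp_iff' hR _).1 ?_
  show Function.Bijective ⇑Φ₀
  rw [(funext hcomp : (⇑Φ₀) = ⇑G₀)]
  exact hG₀

end Groth.Agent.H10Coh.Kunneth
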