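import Groth.Agent.H8Props.RelPCRing
import Groth.Agent.H10Coh.AmpleVanishing
import Groth.Agent.H10Coh.Proper
import Groth.Agent.LeadFF.Geom
import Mathlib.Algebra.TrivSqZeroExt.Basic

/-!
# Induction over an affine cover

* `exists_retract`: a quasi-coherent module on an affine scheme is a direct summand of the direct image of
  the structure sheaf of an affine scheme;
* `induction_cover`: a class of quasi-coherent modules that contains the direct images from the members of
  a finite affine cover and is closed under the three-term rules contains every quasi-coherent module.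
-/

set_option autoImplicit false
set_option linter.style.haveILetI false
set_option linter.unusedSectionVars false
set_option backward.isDefEq.respectTransparency.types false

noncomputable section

universe u

open CategoryTheory CategoryTheory.Limits AlgebraicGeometry Opposite TopologicalSpace

namespace Groth.Agent.H10Coh.Kunneth

theorem exists_retract_tilde (B : CommRingCat.{u}) (M : ModuleCat.{u} B) :
    ∃ (C : CommRingCat.{u}) (α : B ⟶ C)
      (i : tilde M ⟶ (Scheme.Modules.pushforward (Spec.map α)).obj (Coh.structureModule (Spec C)))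
      (r : (Scheme.Modules.pushforward (Spec.map α)).obj (Coh.structureModule (Spec C)) ⟶ tilde M),
      i ≫ r = 𝟙 (tilde M) := by
  letI : Module (↑B)ᵐᵒᵖ M := Module.compHom M ((RingEquiv.toOpposite (↑B)).symm : (↑B)ᵐᵒᵖ →+* ↑B)
  haveI : IsCentralScalar (↑B) M := ⟨fun _ _ => rfl⟩
  let C : CommRingCat.{u} := CommRingCat.of (TrivSqZeroExt (↑B) M)
  let α : B ⟶ C := CommRingCat.ofHom (TrivSqZeroExt.inlHom (↑B) M)
  let R := (ModuleCat.restrictScalars α.hom).obj (ModuleCat.of C C)
  let i₀ : M ⟶ R := ModuleCat.ofHom (Y := R)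
    { toFun := fun m => (show R from (TrivSqZeroExt.inr m : TrivSqZeroExt (↑B) M))
      map_add' := fun m m' => TrivSqZeroExt.inr_add (↑B) m m'
      map_smul' := fun b m => (TrivSqZeroExt.inl_mul_inr b m).symm }
  let r₀ : R ⟶ M := ModuleCat.ofHom (X := R)
    { toFun := fun z => (show TrivSqZeroExt (↑B) M from z).snd
      map_add' := fun z z' => TrivSqZeroExt.snd_add (show TrivSqZeroExt (↑B) M from z) z'
      map_smul' := fun b z => by
        show (TrivSqZeroExt.inl b * (show TrivSqZeroExt (↑B) M from z)).snd = _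
        simp }
  have h₀ : i₀ ≫ r₀ = 𝟙 M := ModuleCat.hom_ext (LinearMap.ext fun m => TrivSqZeroExt.snd_inr (↑B) m)
  let p : (Scheme.Modules.pushforward (Spec.map α)).obj (Coh.structureModule (Spec C)) ≅ tilde R :=
    (Scheme.Modules.pushforward (Spec.map α)).mapIso (tildeSelf (R := C)).symm ≪≫
      (H8Props.RelPC.tildePushIso α).app (ModuleCat.of C C)
  refine ⟨C, α, (tilde.functor B).map i₀ ≫ p.inv, p.hom ≫ (tilde.functor B).map r₀, ?_⟩
  rw [Category.assoc]
  refine (congrArg ((tilde.functor B).map i₀ ≫ ·) (p.inv_hom_id_assoc _)).trans ?_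
  exact ((tilde.functor B).map_comp i₀ r₀).symm.trans
    ((congrArg (tilde.functor B).map h₀).trans ((tilde.functor B).map_id M))

theorem exists_retract (B : CommRingCat.{u}) (N : (Spec B).Modules) [N.IsQuasicoherent] :
    ∃ (C : CommRingCat.{u}) (α : B ⟶ C)
      (i : N ⟶ (Scheme.Modules.pushforward (Spec.map α)).obj (Coh.structureModule (Spec C)))
      (r : (Scheme.Modules.pushforward (Spec.map α)).obj (Coh.structureModule (Spec C)) ⟶ N), i ≫ r = 𝟙 N := by
  haveI : IsIso N.fromTildeΓ := Scheme.Modules.isIso_fromTildeΓ_of_isQuasicoherent (R := B) N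
  obtain ⟨C, α, i, r, h⟩ := exists_retract_tilde B (moduleSpecΓFunctor.obj N)
  refine ⟨C, α, inv N.fromTildeΓ ≫ i, r ≫ N.fromTildeΓ, ?_⟩
  rw [Category.assoc]
  refine (congrArg (inv N.fromTildeΓ ≫ ·) ((Category.assoc i r _).symm.trans (congrArg (· ≫ _) h))).trans ?_
  exact (congrArg (inv N.fromTildeΓ ≫ ·) (Category.id_comp _)).trans (IsIso.inv_hom_id N.fromTildeΓ)

variable {X : Scheme.{u}}

theorem subsingleton_of_isZero_restrict {Z : Scheme.{u}} (j : Z ⟶ X) [IsOpenImmersion j] {G : X.Modules}
    (h : IsZero (G.restrict j)) {W : X.Opens} (hW : W ≤ j.opensRange) : Subsingleton Γ(G, W) := by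
  have e : j ''ᵁ (j ⁻¹ᵁ W) = W := by
    rw [Scheme.Hom.image_preimage_eq_opensRange_inf, inf_eq_right.2 hW]
  rw [← e]
  refine subsingleton_of_forall_eq 0 fun s => ?_
  exact congr($(congrArg (fun k => Scheme.Modules.Hom.app k (j ⁻¹ᵁ W)) (h.eq_of_src (𝟙 (G.restrict j)) 0)) s)

theorem isZero_of_sections (G : X.Modules) (h : ∀ W : X.Opens, Subsingleton Γ(G, W)) : IsZero G := by
  rw [IsZero.iff_id_eq_zero]
  exact LeadFF.hom_ext_sections _ _ fun W s => (h W).elim _ _

variable {Z Z' : Scheme.{u}} (j : Z ⟶ X) [IsOpenImmersion j] (j' : Z' ⟶ X) [IsOpenImmersion j']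

theorem isZero_restrict_push {G : X.Modules} (h : IsZero (G.restrict j')) :
    IsZero (((Scheme.Modules.pushforward j).obj (G.restrict j)).restrict j') :=
  isZero_of_sections _ fun W =>
    subsingleton_of_isZero_restrict j' h (W := j ''ᵁ (j ⁻¹ᵁ (j' ''ᵁ W)))
      ((j.image_preimage_le _).trans (j'.image_le_opensRange W))

variable {j j'}

theorem isZero_restrict_kernel {G H : X.Modules} (f : G ⟶ H)
    (h : IsZero (G.restrict j') ∨ IsIso ((Scheme.Modules.restrictFunctor j').map f)) :
    IsZero ((kernel f).restrict j') := by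
  haveI : Mono ((Scheme.Modules.restrictFunctor j').map (kernel.ι f)) := inferInstance
  rw [IsZero.iff_id_eq_zero, ← cancel_mono ((Scheme.Modules.restrictFunctor j').map (kernel.ι f)), zero_comp]
  refine (Category.id_comp _).trans ?_
  rcases h with h | h
  · exact h.eq_of_tgt _ _
  · rw [← cancel_mono ((Scheme.Modules.restrictFunctor j').map f), zero_comp, ← Functor.map_comp, kernel.condition,
      Functor.map_zero]

theorem isZero_restrict_cokernel {G H : X.Modules} (f : G ⟶ H)
    (h : IsZero (H.restrict j') ∨ IsIso ((Scheme.Modules.restrictFunctor j').map f)) :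
    IsZero ((cokernel f).restrict j') := by
  haveI : Epi ((Scheme.Modules.restrictFunctor j').map (cokernel.π f)) := inferInstance
  rw [IsZero.iff_id_eq_zero, ← cancel_epi ((Scheme.Modules.restrictFunctor j').map (cokernel.π f)), comp_zero]
  refine (Category.comp_id _).trans ?_
  rcases h with h | h
  · exact h.eq_of_src _ _
  · rw [← cancel_epi ((Scheme.Modules.restrictFunctor j').map f), comp_zero, ← Functor.map_comp,
      cokernel.condition, Functor.map_zero]

variable (j) in
theorem isIso_restrict_unit (G : X.Modules) :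
    IsIso ((Scheme.Modules.restrictFunctor j).map ((Scheme.Modules.restrictAdjunction j).unit.app G)) :=
  IsIso.of_isIso_fac_right ((Scheme.Modules.restrictAdjunction j).left_triangle_components G)

/-- The induction. -/
theorem induction_cover (P : X.Modules → Prop) (hzero : ∀ G, IsZero G → P G)
    (h₁ : ∀ S : ShortComplex X.Modules, S.ShortExact → P S.X₂ → P S.X₃ → P S.X₁)
    (h₂ : ∀ S : ShortComplex X.Modules, S.ShortExact → P S.X₁ → P S.X₃ → P S.X₂)
    {n : ℕ} (Z : Fin n → Scheme.{u}) (j : ∀ i, Z i ⟶ X) [∀ i, IsOpenImmersion (j i)] [∀ i, IsAffineHom (j i)]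
    (hcov : ∀ x : X, ∃ i, x ∈ (j i).opensRange) [∀ i, IsAffine (Z i)]
    (hpush : ∀ i (N : (Z i).Modules), N.IsQuasicoherent → P ((Scheme.Modules.pushforward (j i)).obj N))
    (G : X.Modules) (hG : G.IsQuasicoherent) : P G := by
  suffices h : ∀ (m k : ℕ), k + m = n → ∀ G : X.Modules, G.IsQuasicoherent →
      (∀ i : Fin n, i.1 < k → IsZero (G.restrict (j i))) → P G from
    h n 0 (Nat.zero_add n) G hG fun i hi => absurd hi (Nat.not_lt_zero _)
  intro m
  induction m with
  | zero =>
    intro k hk G hG hz
    haveI := hG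
    refine hzero G (H10Coh.Tw.isZero_of_qcoh_cover G (fun i => (j i).opensRange)
      (fun i => isAffineOpen_opensRange (j i)) hcov fun i => ?_)
    exact subsingleton_of_isZero_restrict (j i) (hz i (by have := i.2; omega)) le_rfl
  | succ m ih =>
    intro k hk G hG hz
    haveI := hG
    let i₀ : Fin n := ⟨k, by omega⟩
    haveI : (G.restrict (j i₀)).IsQuasicoherent := Scheme.Modules.isQuasicoherent_restrictFunctor (j i₀) G
    let M := (Scheme.Modules.pushforward (j i₀)).obj (G.restrict (j i₀))
    haveI : M.IsQuasicoherent := H10Coh.isQuasicoherent_pushforward_of_isAffineHom (j i₀) _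
    let f : G ⟶ M := (Scheme.Modules.restrictAdjunction (j i₀)).unit.app G
    have hM : P M := hpush i₀ _ ‹_›
    have hz' : ∀ i : Fin n, i.1 < k + 1 →
        (IsZero (G.restrict (j i)) ∧ IsZero (M.restrict (j i))) ∨
          IsIso ((Scheme.Modules.restrictFunctor (j i)).map f) := fun i hi => by
      rcases Nat.lt_succ_iff_lt_or_eq.1 hi with hlt | heq
      · exact Or.inl ⟨hz i hlt, isZero_restrict_push (j i₀) (j i) (hz i hlt)⟩
      · obtain rfl : i = i₀ := Fin.ext heq
        exact Or.inr (isIso_restrict_unit (j i₀) G)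
    have hK : P (kernel f) := ih (k + 1) (by omega) _ (H10Coh.isQuasicoherent_kernel f) fun i hi =>
      isZero_restrict_kernel f ((hz' i hi).imp And.left id)
    have hQ : P (cokernel f) := ih (k + 1) (by omega) _ (H10Coh.isQuasicoherent_cokernel f) fun i hi =>
      isZero_restrict_cokernel f ((hz' i hi).imp And.right id)
    let S₂ : ShortComplex X.Modules := ShortComplex.mk (Abelian.image.ι f) (cokernel.π f) (kernel.condition _)
    have hS₂ : S₂.ShortExact :=
      { exact := ShortComplex.exact_of_f_is_kernel _ (kernelIsKernel _)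
        mono_f := inferInstanceAs (Mono (kernel.ι _))
        epi_g := inferInstanceAs (Epi (cokernel.π f)) }
    have hI : P (Abelian.image f) := h₁ S₂ hS₂ hM hQ
    let S₁ : ShortComplex X.Modules := ShortComplex.mk (kernel.ι f) (Abelian.factorThruImage f)
      (by rw [← cancel_mono (Abelian.image.ι f), Category.assoc, Abelian.image.fac, zero_comp, kernel.condition])
    have hS₁ : S₁.ShortExact :=
      { exact := ShortComplex.exact_of_f_is_kernel _ (KernelFork.IsLimit.ofι _ _
          (fun k hk => kernel.lift f k (by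
            rw [← Abelian.image.fac f, ← Category.assoc]
            exact (congrArg (· ≫ Abelian.image.ι f) hk).trans zero_comp))
          (fun k hk => kernel.lift_ι f k _)
          fun k hk m hm => by rw [← cancel_mono (kernel.ι f)]; exact hm.trans (kernel.lift_ι f k _).symm)
        mono_f := inferInstanceAs (Mono (kernel.ι f))
        epi_g := inferInstanceAs (Epi (Abelian.factorThruImage f)) }
    exact h₂ S₁ hS₁ hK hI

end Groth.Agent.H10Coh.Kunneth
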