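import Groth.Agent.H10Coh.Kunneth.Base
import Groth.Agent.H10Coh.Kunneth.Retract
import Groth.Agent.H10Coh.ExtPowFree

/-!
# The Künneth formula over an affine base
-/

set_option autoImplicit false
set_option linter.style.haveILetI false
set_option linter.unusedSectionVars false
set_option backward.isDefEq.respectTransparency.types false
set_option synthInstance.maxHeartbeats 400000
set_option maxHeartbeats 1000000

noncomputable section

universe u

open CategoryTheory CategoryTheory.Limits AlgebraicGeometry Opposite TopologicalSpace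

namespace Groth.Agent.H10Coh.Kunneth

attribute [local instance 10000] H10Coh.hasSheafifyAb H10Coh.hasWeakSheafifyAb H10Coh.hasExtAb H10Coh.enoughInjAb

local notation "pushforwardM" => Scheme.Modules.pushforward

variable {A : Type u} [CommRing A] {X₁ X₂ X : Scheme.{u}} [X₁.Over (Spec (CommRingCat.of A))]
  [X₂.Over (Spec (CommRingCat.of A))] [X.Over (Spec (CommRingCat.of A))] {p₁ : X ⟶ X₁} {p₂ : X ⟶ X₂}
  (hsq : IsPullback p₁ p₂ (X₁ ↘ Spec (CommRingCat.of A)) (X₂ ↘ Spec (CommRingCat.of A)))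
  (hX : p₁ ≫ (X₁ ↘ Spec (CommRingCat.of A)) = (X ↘ Spec (CommRingCat.of A)))
  (F₁ : X₁.Modules) [HasExt.{u} X₂.Modules] [PreservesFiniteLimits (ΦK p₁ p₂ F₁)]
  [F₁.IsQuasicoherent] [QuasiCompact (X₁ ↘ Spec (CommRingCat.of A))] [IsAffineHom (pullback.diagonal (X₁ ↘ Spec (CommRingCat.of A)))]
  [QuasiCompact (X₂ ↘ Spec (CommRingCat.of A))] [IsAffineHom (pullback.diagonal (X₂ ↘ Spec (CommRingCat.of A)))]
  (hfl : FlatMod.IsFlatOver (X₁ ↘ Spec (CommRingCat.of A)) F₁) (hH : ∀ p : ℕ, Module.Flat A (Coh.HH X₁ F₁ p))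

include hsq hX hfl hH in
theorem good_push_affine {B : CommRingCat.{u}} (j : Spec B ⟶ X₂) [IsAffineHom j] (N : (Spec B).Modules)
    [N.IsQuasicoherent] : (kK hsq hX F₁).Good ((pushforwardM j).obj N) := by
  obtain ⟨C, α, i, r, hir⟩ := exists_retract B N
  let τ : Spec C ⟶ X₂ := Spec.map α ≫ j
  let φ : CommRingCat.of A ⟶ C := Spec.preimage (τ ≫ (X₂ ↘ Spec (CommRingCat.of A)))
  letI : Algebra A C := φ.hom.toAlgebra
  letI : (Spec C).Over (Spec (CommRingCat.of C)) := ⟨𝟙 _⟩
  haveI : IsIso ((Spec C) ↘ Spec (CommRingCat.of C)) := inferInstanceAs (IsIso (𝟙 (Spec C)))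
  have hτ : τ ≫ (X₂ ↘ Spec (CommRingCat.of A)) =
      ((Spec C) ↘ Spec (CommRingCat.of C)) ≫ Spec.map (CommRingCat.ofHom (algebraMap A C)) :=
    ((Category.id_comp _).trans (Spec.map_preimage (τ ≫ (X₂ ↘ Spec (CommRingCat.of A))))).symm
  have hg := good_push hsq hX F₁ hfl hH (S := C) τ hτ
  let c := (Scheme.Modules.pushforwardComp (Spec.map α) j).app (Coh.structureModule (Spec C))
  refine (kK hsq hX F₁).good_of_retract ((pushforwardM j).map i ≫ c.hom) (c.inv ≫ (pushforwardM j).map r) ?_ hg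
  rw [Category.assoc, Iso.hom_inv_id_assoc, ← Functor.map_comp, hir, CategoryTheory.Functor.map_id]

include hsq hX hfl hH in
theorem good_of_qcoh (G : X₂.Modules) (hG : G.IsQuasicoherent) : (kK hsq hX F₁).Good G := by
  haveI : CompactSpace X₂ := QuasiCompact.compactSpace_of_compactSpace (X₂ ↘ Spec (CommRingCat.of A))
  choose V hV hxV using fun x : X₂ => H11Ample.exists_isAffineOpen_mem x
  obtain ⟨t, ht⟩ := isCompact_univ.elim_finite_subcover (fun x => (V x : Set X₂)) (fun x => (V x).2)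
    (fun x _ => Set.mem_iUnion.2 ⟨x, hxV x⟩)
  let W : Fin t.card → X₂.Opens := fun i => V (t.equivFin.symm i)
  let j : ∀ i : Fin t.card, Spec Γ(X₂, W i) ⟶ X₂ := fun i => (hV (t.equivFin.symm i)).fromSpec
  haveI : ∀ i, IsOpenImmersion (j i) := fun i => inferInstanceAs (IsOpenImmersion (hV (t.equivFin.symm i)).fromSpec)
  haveI : ∀ i, IsAffineHom (j i) := fun i => isAffineHom_fromSpec A (hV (t.equivFin.symm i))
  have hcov : ∀ x : X₂, ∃ i, x ∈ (j i).opensRange := fun x => by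
    obtain ⟨y, hy, hxy⟩ := Set.mem_iUnion₂.1 (ht (Set.mem_univ x))
    refine ⟨t.equivFin ⟨y, hy⟩, ?_⟩
    rw [show (j _).opensRange = W (t.equivFin ⟨y, hy⟩) from
      (hV (t.equivFin.symm (t.equivFin ⟨y, hy⟩))).opensRange_fromSpec]
    show x ∈ V (t.equivFin.symm (t.equivFin ⟨y, hy⟩))
    rw [Equiv.symm_apply_apply]
    exact hxy
  exact induction_cover (kK hsq hX F₁).Good
    (fun G h => (kK hsq hX F₁).good_of_subsingleton G (fun q => H10Coh.ExtPowFree.subsingleton_HH_of_isZero h q)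
      fun n => H10Coh.ExtPowFree.subsingleton_HH_of_isZero (Functor.map_isZero (ΦK p₁ p₂ F₁) h) n)
    (fun _ hS => (kK hsq hX F₁).good₁ hS) (fun _ hS => (kK hsq hX F₁).good₂ hS)
    _ j hcov (fun i N hN => haveI := hN; good_push_affine hsq hX F₁ hfl hH (j i) N) G hG

end Groth.Agent.H10Coh.Kunneth
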