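import Mathlib.LinearAlgebra.DirectSum.TensorProduct
import Mathlib.RingTheory.Flat.Basic
import Mathlib.Algebra.FiveLemma
import Mathlib.Algebra.Order.Antidiag.Prod
import Mathlib.Data.Finset.NatAntidiagonal

/-!
# Total graded modules of long exact sequences and bigraded pairings

* `tmap`, `tδ`: total maps of a long exact sequence, exact by `exact_map`, `exact_map_δ`, `exact_δ_map`;
* `Θ`, `Θn`: a family of pairings `P p × E q → W (p + q)`, as a total map and degree by degree.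
-/

set_option autoImplicit false

universe u

open TensorProduct

namespace Groth.Agent.H10Coh.Kunneth

variable {A : Type u} [CommRing A]

section Total

variable {E F G : ℕ → Type u} [∀ i, AddCommGroup (E i)] [∀ i, Module A (E i)] [∀ i, AddCommGroup (F i)]
  [∀ i, Module A (F i)] [∀ i, AddCommGroup (G i)] [∀ i, Module A (G i)]

/-- The map of total modules of a degreewise map. -/
noncomputable def tmap (f : ∀ q, E q →ₗ[A] F q) : (DirectSum ℕ E) →ₗ[A] DirectSum ℕ F :=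
  DirectSum.toModule A ℕ _ fun q => DirectSum.lof A ℕ F q ∘ₗ f q

/-- The map of total modules of a degree one map. -/
noncomputable def tδ (d : ∀ q, E q →ₗ[A] F (q + 1)) : (DirectSum ℕ E) →ₗ[A] DirectSum ℕ F :=
  DirectSum.toModule A ℕ _ fun q => DirectSum.lof A ℕ F (q + 1) ∘ₗ d q

@[simp] theorem tmap_lof (f : ∀ q, E q →ₗ[A] F q) (q : ℕ) (x : E q) :
    tmap f (DirectSum.lof A ℕ E q x) = DirectSum.lof A ℕ F q (f q x) := by
  rw [tmap, DirectSum.toModule_lof]; rfl

@[simp] theorem tδ_lof (d : ∀ q, E q →ₗ[A] F (q + 1)) (q : ℕ) (x : E q) :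
    tδ d (DirectSum.lof A ℕ E q x) = DirectSum.lof A ℕ F (q + 1) (d q x) := by
  rw [tδ, DirectSum.toModule_lof]; rfl

theorem tmap_apply (f : ∀ q, E q →ₗ[A] F q) (x : DirectSum ℕ E) (q : ℕ) : tmap f x q = f q (x q) := by
  suffices h : DirectSum.component A ℕ F q ∘ₗ tmap f = f q ∘ₗ DirectSum.component A ℕ E q from
    LinearMap.congr_fun h x
  refine DirectSum.linearMap_ext A fun i => LinearMap.ext fun y => ?_
  simp only [LinearMap.comp_apply, tmap_lof]
  rcases eq_or_ne i q with rfl | hne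
  · simp
  · simp [DirectSum.component.of, hne]

theorem tδ_apply (d : ∀ q, E q →ₗ[A] F (q + 1)) (x : DirectSum ℕ E) (q : ℕ) :
    tδ d x (q + 1) = d q (x q) := by
  suffices h : DirectSum.component A ℕ F (q + 1) ∘ₗ tδ d = d q ∘ₗ DirectSum.component A ℕ E q from
    LinearMap.congr_fun h x
  refine DirectSum.linearMap_ext A fun i => LinearMap.ext fun y => ?_
  simp only [LinearMap.comp_apply, tδ_lof]
  rcases eq_or_ne i q with rfl | hne
  · simp
  · simp [DirectSum.component.of, hne]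

theorem tδ_apply_zero (d : ∀ q, E q →ₗ[A] F (q + 1)) (x : DirectSum ℕ E) : tδ d x 0 = 0 := by
  suffices h : DirectSum.component A ℕ F 0 ∘ₗ tδ d = 0 from LinearMap.congr_fun h x
  refine DirectSum.linearMap_ext A fun i => LinearMap.ext fun y => ?_
  simp only [LinearMap.comp_apply, tδ_lof, LinearMap.zero_apply]
  simp [DirectSum.component.of]

theorem mem_range_of_components (L : (DirectSum ℕ E) →ₗ[A] DirectSum ℕ F) (x : DirectSum ℕ F)
    (h : ∀ q, DirectSum.lof A ℕ F q (x q) ∈ LinearMap.range L) : x ∈ LinearMap.range L := by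
  classical
  rw [← DirectSum.sum_support_of x]
  exact Submodule.sum_mem _ fun q _ => by simpa [DirectSum.lof_eq_of] using h q

theorem exact_map {f : ∀ q, E q →ₗ[A] F q} {g : ∀ q, F q →ₗ[A] G q} (h : ∀ q, Function.Exact (f q) (g q)) :
    Function.Exact (tmap f) (tmap g) := by
  intro y
  refine ⟨fun hy => mem_range_of_components _ y fun q => ?_, ?_⟩
  · obtain ⟨x, hx⟩ := (h q (y q)).1 (by rw [← tmap_apply g y q, hy]; rfl)
    exact ⟨DirectSum.lof A ℕ E q x, by rw [tmap_lof, hx]⟩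
  · rintro ⟨x, rfl⟩
    refine DFinsupp.ext fun q => ?_
    show tmap g (tmap f x) q = 0
    rw [tmap_apply, tmap_apply, (h q).apply_apply_eq_zero]

theorem exact_map_δ {g : ∀ q, E q →ₗ[A] F q} {d : ∀ q, F q →ₗ[A] G (q + 1)}
    (h : ∀ q, Function.Exact (g q) (d q)) : Function.Exact (tmap g) (tδ d) := by
  intro y
  refine ⟨fun hy => mem_range_of_components _ y fun q => ?_, ?_⟩
  · obtain ⟨x, hx⟩ := (h q (y q)).1 (by rw [← tδ_apply d y q, hy]; rfl)
    exact ⟨DirectSum.lof A ℕ E q x, by rw [tmap_lof, hx]⟩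
  · rintro ⟨x, rfl⟩
    refine DFinsupp.ext fun q => ?_
    show tδ d (tmap g x) q = 0
    cases q with
    | zero => exact tδ_apply_zero d _
    | succ q => rw [tδ_apply, tmap_apply, (h q).apply_apply_eq_zero]

theorem exact_δ_map {d : ∀ q, E q →ₗ[A] F (q + 1)} {f : ∀ q, F q →ₗ[A] G q}
    (h₀ : Function.Injective (f 0)) (h : ∀ q, Function.Exact (d q) (f (q + 1))) :
    Function.Exact (tδ d) (tmap f) := by
  intro y
  refine ⟨fun hy => mem_range_of_components _ y fun q => ?_, ?_⟩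
  · have hq : f q (y q) = 0 := by rw [← tmap_apply f y q, hy]; rfl
    cases q with
    | zero =>
      rw [(injective_iff_map_eq_zero (f 0)).1 h₀ _ hq, map_zero]
      exact zero_mem _
    | succ q =>
      obtain ⟨x, hx⟩ := (h q (y (q + 1))).1 hq
      exact ⟨DirectSum.lof A ℕ E q x, by rw [tδ_lof, hx]⟩
  · rintro ⟨x, rfl⟩
    refine DFinsupp.ext fun q => ?_
    show tmap f (tδ d x) q = 0
    cases q with
    | zero => rw [tmap_apply, tδ_apply_zero, map_zero]
    | succ q => rw [tmap_apply, tδ_apply, (h q).apply_apply_eq_zero]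

theorem tmap_comp_apply (f : ∀ q, E q →ₗ[A] F q) (g : ∀ q, F q →ₗ[A] G q) (x : DirectSum ℕ E) :
    tmap g (tmap f x) = tmap (fun q => g q ∘ₗ f q) x :=
  DFinsupp.ext fun q => by rw [tmap_apply, tmap_apply, tmap_apply]; rfl

theorem tmap_id_apply (f : ∀ q, E q →ₗ[A] E q) (hf : ∀ q x, f q x = x) (x : DirectSum ℕ E) : tmap f x = x :=
  DFinsupp.ext fun q => by rw [tmap_apply, hf]

end Total

section Pairing

variable {P E W : ℕ → Type u} [∀ i, AddCommGroup (P i)] [∀ i, Module A (P i)] [∀ i, AddCommGroup (E i)]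
  [∀ i, Module A (E i)] [∀ i, AddCommGroup (W i)] [∀ i, Module A (W i)]
  (θ : ∀ p q n : ℕ, p + q = n → (P p →ₗ[A] E q →ₗ[A] W n))

/-- The total pairing. -/
noncomputable def Θ : (DirectSum ℕ P) ⊗[A] (DirectSum ℕ E) →ₗ[A] DirectSum ℕ W :=
  TensorProduct.lift (DirectSum.toModule A ℕ _ fun p => LinearMap.flip
    (DirectSum.toModule A ℕ _ fun q =>
      LinearMap.flip ((θ p q (p + q) rfl).compr₂ (DirectSum.lof A ℕ W (p + q)))))

@[simp] theorem Θ_lof (p q : ℕ) (x : P p) (y : E q) :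
    Θ θ (DirectSum.lof A ℕ P p x ⊗ₜ DirectSum.lof A ℕ E q y) =
      DirectSum.lof A ℕ W (p + q) (θ p q (p + q) rfl x y) := by
  simp [Θ]

/-- The pairing into degree `n`. -/
noncomputable def Θn (n : ℕ) :
    (DirectSum (Finset.antidiagonal n) fun pq => P pq.1.1 ⊗[A] E pq.1.2) →ₗ[A] W n :=
  DirectSum.toModule A _ _ fun pq =>
    TensorProduct.lift (θ pq.1.1 pq.1.2 n (Finset.mem_antidiagonal.mp pq.2))

variable (A P E) in
/-- The inclusion of degree `n`. -/
noncomputable def ι (n : ℕ) :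
    (DirectSum (Finset.antidiagonal n) fun pq => P pq.1.1 ⊗[A] E pq.1.2) →ₗ[A]
      (DirectSum ℕ P) ⊗[A] (DirectSum ℕ E) :=
  DirectSum.toModule A _ _ fun pq =>
    TensorProduct.map (DirectSum.lof A ℕ P pq.1.1) (DirectSum.lof A ℕ E pq.1.2)

open Classical in
variable (A P E) in
/-- The projection on degree `n`. -/
noncomputable def π (n : ℕ) : (DirectSum ℕ P) ⊗[A] (DirectSum ℕ E) →ₗ[A]
    (DirectSum (Finset.antidiagonal n) fun pq => P pq.1.1 ⊗[A] E pq.1.2) :=
  (DirectSum.toModule A (ℕ × ℕ) _ fun i =>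
    if h : i.1 + i.2 = n then
      DirectSum.lof A (Finset.antidiagonal n) (fun pq => P pq.1.1 ⊗[A] E pq.1.2)
        ⟨i, Finset.mem_antidiagonal.mpr h⟩
    else 0) ∘ₗ (TensorProduct.directSum A A P E).toLinearMap

theorem π_ι (n : ℕ) (z : DirectSum (Finset.antidiagonal n) fun pq => P pq.1.1 ⊗[A] E pq.1.2) :
    π A P E n (ι A P E n z) = z := by
  classical
  suffices h : π A P E n ∘ₗ ι A P E n = LinearMap.id from LinearMap.congr_fun h z
  refine DirectSum.linearMap_ext A fun pq => TensorProduct.ext' fun x y => ?_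
  obtain ⟨⟨p, q⟩, hpq⟩ := pq
  have h : p + q = n := Finset.mem_antidiagonal.mp hpq
  simp [π, ι, h]

theorem Θ_ι (n : ℕ) (z : DirectSum (Finset.antidiagonal n) fun pq => P pq.1.1 ⊗[A] E pq.1.2) :
    Θ θ (ι A P E n z) = DirectSum.lof A ℕ W n (Θn θ n z) := by
  suffices h : Θ θ ∘ₗ ι A P E n = DirectSum.lof A ℕ W n ∘ₗ Θn θ n from LinearMap.congr_fun h z
  refine DirectSum.linearMap_ext A fun pq => TensorProduct.ext' fun x y => ?_
  obtain ⟨⟨p, q⟩, hpq⟩ := pq
  obtain rfl : p + q = n := Finset.mem_antidiagonal.mp hpq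
  simp [ι, Θn]

theorem Θn_π (n : ℕ) (z : (DirectSum ℕ P) ⊗[A] (DirectSum ℕ E)) :
    Θn θ n (π A P E n z) = Θ θ z n := by
  classical
  suffices h : Θn θ n ∘ₗ π A P E n = DirectSum.component A ℕ W n ∘ₗ Θ θ from LinearMap.congr_fun h z
  refine TensorProduct.ext (DirectSum.linearMap_ext A fun p => LinearMap.ext fun x =>
    DirectSum.linearMap_ext A fun q => LinearMap.ext fun y => ?_)
  by_cases h : p + q = n
  · subst h
    simp [π, Θn]
  · simp [π, DirectSum.component.of, h]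

theorem bijective_Θn (h : Function.Bijective (Θ θ)) (n : ℕ) : Function.Bijective (Θn θ n) := by
  refine ⟨(injective_iff_map_eq_zero _).2 fun z hz => ?_, fun y => ?_⟩
  · have h0 : Θ θ (ι A P E n z) = 0 := by rw [Θ_ι, hz, map_zero]
    rw [← π_ι n z, (injective_iff_map_eq_zero _).1 h.1 _ h0, map_zero]
  · obtain ⟨z, hz⟩ := h.2 (DirectSum.lof A ℕ W n y)
    refine ⟨π A P E n z, ?_⟩
    rw [Θn_π, hz]
    simp

end Pairing

section Square

variable {P E E' W W' : ℕ → Type u} [∀ i, AddCommGroup (P i)] [∀ i, Module A (P i)] [∀ i, AddCommGroup (E i)]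
  [∀ i, Module A (E i)] [∀ i, AddCommGroup (E' i)] [∀ i, Module A (E' i)] [∀ i, AddCommGroup (W i)]
  [∀ i, Module A (W i)] [∀ i, AddCommGroup (W' i)] [∀ i, Module A (W' i)]
  (θ : ∀ p q n : ℕ, p + q = n → (P p →ₗ[A] E q →ₗ[A] W n))
  (θ' : ∀ p q n : ℕ, p + q = n → (P p →ₗ[A] E' q →ₗ[A] W' n))

theorem Θ_tmap (f : ∀ q, E q →ₗ[A] E' q) (g : ∀ n, W n →ₗ[A] W' n)
    (h : ∀ (p q : ℕ) (x : P p) (y : E q), g (p + q) (θ p q (p + q) rfl x y) = θ' p q (p + q) rfl x (f q y)) :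
    (tmap g).comp (Θ θ) = (Θ θ').comp ((tmap f).lTensor (DirectSum ℕ P)) := by
  refine TensorProduct.ext (DirectSum.linearMap_ext A fun p => LinearMap.ext fun x =>
    DirectSum.linearMap_ext A fun q => LinearMap.ext fun y => ?_)
  simp [h]

theorem Θ_tδ (f : ∀ q, E q →ₗ[A] E' (q + 1)) (g : ∀ n, W n →ₗ[A] W' (n + 1))
    (h : ∀ (p q : ℕ) (x : P p) (y : E q),
      g (p + q) (θ p q (p + q) rfl x y) = θ' p (q + 1) (p + q + 1) rfl x (f q y)) :
    (tδ g).comp (Θ θ) = (Θ θ').comp ((tδ f).lTensor (DirectSum ℕ P)) := by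
  refine TensorProduct.ext (DirectSum.linearMap_ext A fun p => LinearMap.ext fun x =>
    DirectSum.linearMap_ext A fun q => LinearMap.ext fun y => ?_)
  simp [h]
  rfl

end Square

section FiveLemma

variable {K₁ K₂ K₃ L₁ L₂ L₃ : Type u} [AddCommGroup K₁] [Module A K₁] [AddCommGroup K₂] [Module A K₂]
  [AddCommGroup K₃] [Module A K₃] [AddCommGroup L₁] [Module A L₁] [AddCommGroup L₂] [Module A L₂]
  [AddCommGroup L₃] [Module A L₃]
  (f : K₁ →ₗ[A] K₂) (g : K₂ →ₗ[A] K₃) (d : K₃ →ₗ[A] K₁)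
  (f' : L₁ →ₗ[A] L₂) (g' : L₂ →ₗ[A] L₃) (d' : L₃ →ₗ[A] L₁)
  (i₁ : K₁ →ₗ[A] L₁) (i₂ : K₂ →ₗ[A] L₂) (i₃ : K₃ →ₗ[A] L₃)

/-- The five lemma in an exact triangle. -/
theorem bijective_middle (hf : Function.Exact f g) (hg : Function.Exact g d) (hd : Function.Exact d f)
    (hf' : Function.Exact f' g') (hg' : Function.Exact g' d') (hd' : Function.Exact d' f')
    (c₁ : f'.comp i₁ = i₂.comp f) (c₂ : g'.comp i₂ = i₃.comp g) (c₃ : d'.comp i₃ = i₁.comp d)
    (h₁ : Function.Bijective i₁) (h₃ : Function.Bijective i₃) : Function.Bijective i₂ :=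
  LinearMap.bijective_of_surjective_of_bijective_of_bijective_of_injective d f g d d' f' g' d'
    i₃ i₁ i₂ i₃ i₁ c₃ c₁ c₂ c₃ hd hf hg hd' hf' hg' h₃.2 h₁ h₃ h₁.1

end FiveLemma

end Groth.Agent.H10Coh.Kunneth
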