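import Mathlib.Algebra.Homology.DerivedCategory.Ext.ExactSequences
import Mathlib.Algebra.Homology.DerivedCategory.Ext.EnoughInjectives
import Groth.Agent.H10Coh.ExtMap

/-!
# Natural endomorphisms of the identity act centrally on `Ext`
-/

set_option autoImplicit false

universe w v u

open CategoryTheory CategoryTheory.Abelian

namespace Groth.Agent.H10Coh.Kunneth

variable {C : Type u} [Category.{v} C] [Abelian C] [HasExt.{w} C] [EnoughInjectives C]

theorem ext_central (c : 𝟭 C ⟶ 𝟭 C) (A : C) :
    ∀ (n : ℕ) (B : C) (e : Ext A B n),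
      (Ext.mk₀ (c.app A)).comp e (zero_add n) = e.comp (Ext.mk₀ (c.app B)) (add_zero n) := by
  intro n
  induction n with
  | zero =>
    intro B e
    obtain ⟨φ, rfl⟩ := (Ext.mk₀_bijective A B).2 e
    rw [Ext.mk₀_comp_mk₀, Ext.mk₀_comp_mk₀]
    exact congrArg Ext.mk₀ (c.naturality φ).symm
  | succ n ih =>
    intro B e
    have hS := injSeq_shortExact B
    obtain ⟨q, rfl⟩ : ∃ q : Ext A (injSeq B).X₃ n, q.comp hS.extClass rfl = e :=
      Ext.covariant_sequence_exact₁ A hS e (Ext.eq_zero_of_injective _) rfl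
    let φ : injSeq B ⟶ injSeq B := ShortComplex.homMk (c.app _) (c.app _) (c.app _)
      (c.naturality (injSeq B).f).symm (c.naturality (injSeq B).g).symm
    have hn : hS.extClass.comp (Ext.mk₀ (c.app (injSeq B).X₁)) (add_zero 1) =
        (Ext.mk₀ (c.app (injSeq B).X₃)).comp hS.extClass (zero_add 1) :=
      ShortComplex.ShortExact.extClass_naturality hS hS φ
    rw [← Ext.comp_assoc (Ext.mk₀ (c.app A)) q hS.extClass (zero_add n) rfl (show 0 + n + 1 = n + 1 by omega),
      ih, Ext.comp_assoc q (Ext.mk₀ (c.app (injSeq B).X₃)) hS.extClass (add_zero n) (zero_add 1)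
        (show n + 0 + 1 = n + 1 by omega)]
    refine (congrArg (fun z => q.comp z rfl) hn.symm).trans ?_
    exact (Ext.comp_assoc q hS.extClass (Ext.mk₀ (c.app (injSeq B).X₁)) rfl (add_zero 1)
      (show n + 1 + 0 = n + 1 by omega)).symm

end Groth.Agent.H10Coh.Kunneth
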