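import Groth.Agent.H10Coh.Kunneth.Alg
import Groth.Agent.H10Coh.Kunneth.Central
import Groth.Agent.H4RepDual.UnitHom
import Groth.Agent.H10Coh.HHSeq

/-!
# Cup products along an exact functor

For an exact functor `Φ : Y.Modules ⥤ X.Modules`, a class `c ∈ H^p(X, Φ O)` and `y ∈ H^q(Y, G)` give
`c ∪ y ∈ H^{p+q}(X, Φ G)`, natural in `G` and compatible with connecting maps.
-/

set_option autoImplicit false
set_option linter.style.haveILetI false
set_option linter.unusedSectionVars false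
set_option backward.isDefEq.respectTransparency false
set_option synthInstance.maxHeartbeats 400000

noncomputable section

universe u

open CategoryTheory CategoryTheory.Limits CategoryTheory.Abelian AlgebraicGeometry Opposite TopologicalSpace
open Groth.Agent.H10Coh (shF sh extMap)
open Groth.Agent.H15Site.ModExtH (oneHom bijective_oneHom tf_constZ)
open Groth.Agent.LeadFF (Hm Hm_comp Hm_smulMod smulMod_natural dl)
open scoped TensorProduct

namespace Groth.Agent.H10Coh.Kunneth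

attribute [local instance 10000] H10Coh.hasSheafifyAb H10Coh.hasWeakSheafifyAb H10Coh.hasExtAb H10Coh.enoughInjAb

variable {Y : Scheme.{u}} [HasExt.{u} Y.Modules]

/-- `Ext^q(O, G) = H^q(Y, G)`. -/
def toH (G : Y.Modules) (q : ℕ) : Ext (Coh.structureModule Y) G q ≃+ Coh.HH Y G q :=
  AddEquiv.ofBijective (extMap (shF Y) (oneHom Y.ringCatSheaf) G q) <| by
    haveI := H16Derived.KFlat.Stalk.isGrothendieckAbelian_modules (X := Y)
    haveI : EnoughInjectives Y.Modules := inferInstance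
    exact H10Coh.extMap_bijective (shF Y) (oneHom Y.ringCatSheaf) (bijective_oneHom Y.ringCatSheaf)
      (fun I _ m => H15Site.ModInjAcyclic.subsingleton_ext Y.ringCatSheaf I m _ tf_constZ) q G

theorem toH_comp_mk₀ {G G' : Y.Modules} (φ : G ⟶ G') (q : ℕ) (e : Ext (Coh.structureModule Y) G q) :
    toH G' q (e.comp (Ext.mk₀ φ) (add_zero q)) = Hm φ q (toH G q e) :=
  H10Coh.extMap_naturality _ _ φ q e

theorem toH_extClass {S : ShortComplex Y.Modules} (hS : S.ShortExact) (q : ℕ)
    (e : Ext (Coh.structureModule Y) S.X₃ q) :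
    toH S.X₁ (q + 1) (e.comp hS.extClass rfl) = dl hS q (toH S.X₃ q e) :=
  H10Coh.extMap_extClass _ _ hS q e

variable {A : Type u} [CommRing A] [Y.Over (Spec (CommRingCat.of A))]

/-- Multiplication by a scalar as an endomorphism of the identity. -/
def smulNat (a : A) : 𝟭 Y.Modules ⟶ 𝟭 Y.Modules where
  app M := Formal.smulMod A M a
  naturality _ _ φ := smulMod_natural φ a

variable {X : Scheme.{u}} [X.Over (Spec (CommRingCat.of A))]
  (Φ : Y.Modules ⥤ X.Modules) [Φ.Additive] [PreservesFiniteLimits Φ] [PreservesFiniteColimits Φ]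

/-- The underlying abelian sheaf of `Φ`. -/
abbrev Ψ : Y.Modules ⥤ CohTop.Ab X.toTopCat := Φ ⋙ shF X

/-- The cup product. -/
def cupAdd {p q n : ℕ} (h : p + q = n) (G : Y.Modules) :
    Coh.HH X (Φ.obj (Coh.structureModule Y)) p →+ Coh.HH Y G q →+ Coh.HH X (Φ.obj G) n :=
  AddMonoidHom.mk' (fun c => AddMonoidHom.mk'
    (fun y => Ext.comp c (((toH G q).symm y).mapExactFunctor (Ψ Φ)) h)
    fun y y' => by rw [map_add, Ext.mapExactFunctor_add]; exact Ext.comp_add _ _ _ _)
    fun c c' => AddMonoidHom.ext fun y => Ext.add_comp c c' _ h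

theorem cupAdd_toH {p q n : ℕ} (h : p + q = n) (G : Y.Modules) (c : Coh.HH X (Φ.obj (Coh.structureModule Y)) p)
    (e : Ext (Coh.structureModule Y) G q) :
    cupAdd Φ h G c (toH G q e) = Ext.comp c (e.mapExactFunctor (Ψ Φ)) h := by
  show Ext.comp c (((toH G q).symm (toH G q e)).mapExactFunctor (Ψ Φ)) h = _
  rw [AddEquiv.symm_apply_apply]

theorem cupAdd_natural {p q n : ℕ} (h : p + q = n) {G G' : Y.Modules} (φ : G ⟶ G')
    (c : Coh.HH X (Φ.obj (Coh.structureModule Y)) p) (y : Coh.HH Y G q) :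
    cupAdd Φ h G' c (Hm φ q y) = Hm (Φ.map φ) n (cupAdd Φ h G c y) := by
  obtain ⟨e, rfl⟩ := (toH G q).surjective y
  rw [← toH_comp_mk₀, cupAdd_toH, cupAdd_toH, Ext.mapExactFunctor_comp, Ext.mapExactFunctor_mk₀]
  exact (Ext.comp_assoc c _ _ h (add_zero q) (show p + q + 0 = n by omega)).symm

theorem cupAdd_dl {p q n : ℕ} (h : p + q = n) (h' : p + (q + 1) = n + 1) {S : ShortComplex Y.Modules}
    (hS : S.ShortExact) (c : Coh.HH X (Φ.obj (Coh.structureModule Y)) p) (y : Coh.HH Y S.X₃ q) :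
    cupAdd Φ h' S.X₁ c (dl hS q y) = dl (hS.map_of_exact Φ) n (cupAdd Φ h S.X₃ c y) := by
  obtain ⟨e, rfl⟩ := (toH S.X₃ q).surjective y
  rw [← toH_extClass, cupAdd_toH, cupAdd_toH, Ext.mapExactFunctor_comp, Ext.mapExactFunctor_extClass]
  exact (Ext.comp_assoc c _ _ h rfl (show p + q + 1 = n + 1 by omega)).symm

theorem cupAdd_mk₀ (p : ℕ) {G : Y.Modules} (s : Coh.structureModule Y ⟶ G)
    (c : Coh.HH X (Φ.obj (Coh.structureModule Y)) p) :
    cupAdd Φ (add_zero p) G c (toH G 0 (Ext.mk₀ s)) = Hm (Φ.map s) p c := by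
  rw [cupAdd_toH, Ext.mapExactFunctor_mk₀]
  rfl

variable (hΦ : ∀ (G : Y.Modules) (a : A), Φ.map (Formal.smulMod A G a) = Formal.smulMod A (Φ.obj G) a)

include hΦ in
theorem cupAdd_smul_right {p q n : ℕ} (h : p + q = n) (G : Y.Modules) (a : A)
    (c : Coh.HH X (Φ.obj (Coh.structureModule Y)) p) (y : Coh.HH Y G q) :
    cupAdd Φ h G c (a • y) = a • cupAdd Φ h G c y := by
  rw [← Hm_smulMod, cupAdd_natural, hΦ, Hm_smulMod]

include hΦ in
theorem cupAdd_smul_left {p q n : ℕ} (h : p + q = n) (G : Y.Modules) (a : A)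
    (c : Coh.HH X (Φ.obj (Coh.structureModule Y)) p) (y : Coh.HH Y G q) :
    cupAdd Φ h G (a • c) y = a • cupAdd Φ h G c y := by
  haveI := H16Derived.KFlat.Stalk.isGrothendieckAbelian_modules (X := Y)
  haveI : EnoughInjectives Y.Modules := inferInstance
  rw [← cupAdd_smul_right Φ hΦ]
  obtain ⟨e, rfl⟩ := (toH G q).surjective y
  rw [← Hm_smulMod _ q a (toH G q e), ← toH_comp_mk₀, cupAdd_toH, cupAdd_toH, ← Hm_smulMod, ← hΦ]
  have hc := ext_central (smulNat (A := A) a) (Coh.structureModule Y) q G e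
  change (Ext.mk₀ (Formal.smulMod A (Coh.structureModule Y) a)).comp e (zero_add q) =
    e.comp (Ext.mk₀ (Formal.smulMod A G a)) (add_zero q) at hc
  rw [← hc, Ext.mapExactFunctor_comp, Ext.mapExactFunctor_mk₀]
  exact Ext.comp_assoc c _ _ (add_zero p) (zero_add q) (show p + 0 + q = n by omega)

include hΦ in
/-- The cup product, bilinearly. -/
def cup {p q n : ℕ} (h : p + q = n) (G : Y.Modules) :
    Coh.HH X (Φ.obj (Coh.structureModule Y)) p →ₗ[A] Coh.HH Y G q →ₗ[A] Coh.HH X (Φ.obj G) n :=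
  LinearMap.mk₂ A (fun c y => cupAdd Φ h G c y)
    (fun c c' y => by rw [map_add]; rfl) (fun a c y => cupAdd_smul_left Φ hΦ h G a c y)
    (fun c y y' => map_add _ _ _) fun a c y => cupAdd_smul_right Φ hΦ h G a c y

end Groth.Agent.H10Coh.Kunneth
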