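import Groth.Agent.H10Coh.Kunneth.Conc
import Mathlib.Algebra.Homology.ShortComplex.ShortExact
import Mathlib.Algebra.Category.ModuleCat.Basic

/-!
# The class of objects with bijective total Künneth pairing

Abstractly: two families `E q`, `W n` of functorial modules with connecting maps and long exact sequences,
and pairings `P p × E q → W (p + q)` natural and compatible with the connecting maps.
-/

set_option autoImplicit false
set_option linter.style.haveILetI false

universe u v w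

open CategoryTheory CategoryTheory.Limits TensorProduct

namespace Groth.Agent.H10Coh.Kunneth

/-- Two cohomological families with a pairing. -/
structure KData (C : Type v) [Category.{w} C] [HasZeroMorphisms C] (A : Type u) [CommRing A] (P : ℕ → Type u)
    [∀ p, AddCommGroup (P p)] [∀ p, Module A (P p)] where
  E : ℕ → C → ModuleCat.{u} A
  W : ℕ → C → ModuleCat.{u} A
  mE : ∀ q {G G' : C}, (G ⟶ G') → (E q G →ₗ[A] E q G')
  mW : ∀ n {G G' : C}, (G ⟶ G') → (W n G →ₗ[A] W n G')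
  mE_retract : ∀ q {G G' : C} (i : G ⟶ G') (r : G' ⟶ G), i ≫ r = 𝟙 G → ∀ x, mE q r (mE q i x) = x
  mW_retract : ∀ n {G G' : C} (i : G ⟶ G') (r : G' ⟶ G), i ≫ r = 𝟙 G → ∀ x, mW n r (mW n i x) = x
  dE : ∀ {T : ShortComplex C}, T.ShortExact → ∀ q, E q T.X₃ →ₗ[A] E (q + 1) T.X₁
  dW : ∀ {T : ShortComplex C}, T.ShortExact → ∀ n, W n T.X₃ →ₗ[A] W (n + 1) T.X₁
  exE₂ : ∀ {T : ShortComplex C}, T.ShortExact → ∀ q, Function.Exact (mE q T.f) (mE q T.g)
  exE₃ : ∀ {T : ShortComplex C} (h : T.ShortExact) (q : ℕ), Function.Exact (mE q T.g) (dE h q)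
  exE₁ : ∀ {T : ShortComplex C} (h : T.ShortExact) (q : ℕ), Function.Exact (dE h q) (mE (q + 1) T.f)
  injE : ∀ {T : ShortComplex C}, T.ShortExact → Function.Injective (mE 0 T.f)
  exW₂ : ∀ {T : ShortComplex C}, T.ShortExact → ∀ n, Function.Exact (mW n T.f) (mW n T.g)
  exW₃ : ∀ {T : ShortComplex C} (h : T.ShortExact) (n : ℕ), Function.Exact (mW n T.g) (dW h n)
  exW₁ : ∀ {T : ShortComplex C} (h : T.ShortExact) (n : ℕ), Function.Exact (dW h n) (mW (n + 1) T.f)
  injW : ∀ {T : ShortComplex C}, T.ShortExact → Function.Injective (mW 0 T.f)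
  θ : ∀ (G : C) (p q n : ℕ), p + q = n → (P p →ₗ[A] E q G →ₗ[A] W n G)
  θ_natural : ∀ {G G' : C} (φ : G ⟶ G') (p q : ℕ) (x : P p) (y : E q G),
    mW (p + q) φ (θ G p q (p + q) rfl x y) = θ G' p q (p + q) rfl x (mE q φ y)
  θ_d : ∀ {T : ShortComplex C} (h : T.ShortExact) (p q : ℕ) (x : P p) (y : E q T.X₃),
    dW h (p + q) (θ T.X₃ p q (p + q) rfl x y) = θ T.X₁ p (q + 1) (p + q + 1) rfl x (dE h q y)

namespace KData

variable {C : Type v} [Category.{w} C] [HasZeroMorphisms C] {A : Type u} [CommRing A] {P : ℕ → Type u}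
  [∀ p, AddCommGroup (P p)] [∀ p, Module A (P p)] (K : KData C A P)

/-- Bijectivity of the total pairing. -/
def Good (G : C) : Prop := Function.Bijective (Θ (K.θ G))

theorem Θ_totMap {G G' : C} (φ : G ⟶ G') :
    (tmap fun n => K.mW n φ).comp (Θ (K.θ G)) =
      (Θ (K.θ G')).comp ((tmap fun q => K.mE q φ).lTensor (DirectSum ℕ P)) :=
  Θ_tmap _ _ _ _ (K.θ_natural φ)

theorem Θ_totδ {T : ShortComplex C} (h : T.ShortExact) :
    (tδ (K.dW h)).comp (Θ (K.θ T.X₃)) = (Θ (K.θ T.X₁)).comp ((tδ (K.dE h)).lTensor (DirectSum ℕ P)) :=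
  Θ_tδ _ _ _ _ (K.θ_d h)

theorem good_of_subsingleton (G : C) (hE : ∀ q, Subsingleton (K.E q G)) (hW : ∀ n, Subsingleton (K.W n G)) :
    K.Good G := by
  haveI : Subsingleton (DirectSum ℕ fun n => K.W n G) := ⟨fun a b => DFinsupp.ext fun n => (hW n).elim _ _⟩
  haveI : Subsingleton (DirectSum ℕ fun q => K.E q G) := ⟨fun a b => DFinsupp.ext fun n => (hE n).elim _ _⟩
  refine ⟨fun a b _ => ?_, fun y => ⟨0, Subsingleton.elim _ _⟩⟩
  have h0 : ∀ z : (DirectSum ℕ P) ⊗[A] (DirectSum ℕ fun q => K.E q G), z = 0 := fun z => by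
    induction z using TensorProduct.induction_on with
    | zero => rfl
    | add a b ha hb => rw [ha, hb, add_zero]
    | tmul x y => rw [Subsingleton.elim y 0, TensorProduct.tmul_zero]
  rw [h0 a, h0 b]

variable [∀ p, Module.Flat A (P p)] {T : ShortComplex C} (h : T.ShortExact)

include h in
theorem good₂ (h₁ : K.Good T.X₁) (h₃ : K.Good T.X₃) : K.Good T.X₂ :=
  bijective_middle _ _ _ _ _ _ _ _ _
    (Module.Flat.lTensor_exact _ (exact_map (K.exE₂ h))) (Module.Flat.lTensor_exact _ (exact_map_δ (K.exE₃ h)))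
    (Module.Flat.lTensor_exact _ (exact_δ_map (K.injE h) (K.exE₁ h)))
    (exact_map (K.exW₂ h)) (exact_map_δ (K.exW₃ h)) (exact_δ_map (K.injW h) (K.exW₁ h))
    (K.Θ_totMap T.f) (K.Θ_totMap T.g) (K.Θ_totδ h) h₁ h₃

include h in
theorem good₁ (h₂ : K.Good T.X₂) (h₃ : K.Good T.X₃) : K.Good T.X₁ :=
  bijective_middle _ _ _ _ _ _ _ _ _
    (Module.Flat.lTensor_exact _ (exact_δ_map (K.injE h) (K.exE₁ h)))
    (Module.Flat.lTensor_exact _ (exact_map (K.exE₂ h))) (Module.Flat.lTensor_exact _ (exact_map_δ (K.exE₃ h)))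
    (exact_δ_map (K.injW h) (K.exW₁ h)) (exact_map (K.exW₂ h)) (exact_map_δ (K.exW₃ h))
    (K.Θ_totδ h) (K.Θ_totMap T.f) (K.Θ_totMap T.g) h₃ h₂

include h in
theorem good₃ (h₁ : K.Good T.X₁) (h₂ : K.Good T.X₂) : K.Good T.X₃ :=
  bijective_middle _ _ _ _ _ _ _ _ _
    (Module.Flat.lTensor_exact _ (exact_map_δ (K.exE₃ h)))
    (Module.Flat.lTensor_exact _ (exact_δ_map (K.injE h) (K.exE₁ h))) (Module.Flat.lTensor_exact _ (exact_map (K.exE₂ h)))
    (exact_map_δ (K.exW₃ h)) (exact_δ_map (K.injW h) (K.exW₁ h)) (exact_map (K.exW₂ h))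
    (K.Θ_totMap T.g) (K.Θ_totδ h) (K.Θ_totMap T.f) h₂ h₁

omit [∀ p, Module.Flat A (P p)] in
/-- Retracts. -/
theorem good_of_retract {G G' : C} (i : G ⟶ G') (r : G' ⟶ G) (hir : i ≫ r = 𝟙 G) (h : K.Good G') :
    K.Good G := by
  have kW : ∀ x, tmap (fun n => K.mW n r) (tmap (fun n => K.mW n i) x) = x := fun x => by
    rw [tmap_comp_apply]
    exact tmap_id_apply _ (fun n y => K.mW_retract n i r hir y) x
  have kE : ∀ x, tmap (fun q => K.mE q r) (tmap (fun q => K.mE q i) x) = x := fun x => by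
    rw [tmap_comp_apply]
    exact tmap_id_apply _ (fun q y => K.mE_retract q i r hir y) x
  have nI := fun z => LinearMap.congr_fun (K.Θ_totMap i) z
  have nR := fun z => LinearMap.congr_fun (K.Θ_totMap r) z
  have kY : ∀ z, (tmap fun q => K.mE q r).lTensor (DirectSum ℕ P)
      ((tmap fun q => K.mE q i).lTensor (DirectSum ℕ P) z) = z := fun z => by
    rw [← LinearMap.comp_apply, ← LinearMap.lTensor_comp,
      show (tmap fun q => K.mE q r).comp (tmap fun q => K.mE q i) = LinearMap.id from LinearMap.ext kE,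
      LinearMap.lTensor_id]
    rfl
  simp only [LinearMap.comp_apply] at nI nR
  refine ⟨fun z z' hz => ?_, fun w => ?_⟩
  · have := h.1 ((nI z).symm.trans ((congrArg (tmap fun n => K.mW n i) hz).trans (nI z')))
    exact (kY z).symm.trans ((congrArg _ this).trans (kY z'))
  · obtain ⟨z, hz⟩ := h.2 (tmap (fun n => K.mW n i) w)
    exact ⟨_, (nR z).symm.trans ((congrArg (tmap fun n => K.mW n r) hz).trans (kW w))⟩

end KData

end Groth.Agent.H10Coh.Kunneth
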