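import Groth.Agent.H10Coh.Kunneth.Cup
import Groth.Agent.H10Coh.Kunneth.Good
import Groth.Prelude.Def_Canon

/-!
# Cohomology as pairing data
-/

set_option autoImplicit false
set_option linter.style.haveILetI false
set_option linter.unusedSectionVars false
set_option backward.isDefEq.respectTransparency false
set_option synthInstance.maxHeartbeats 400000
set_option maxHeartbeats 1000000

noncomputable section

universe u

open CategoryTheory CategoryTheory.Limits CategoryTheory.Abelian AlgebraicGeometry Opposite TopologicalSpace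
open Groth.Agent.LeadFF (Hm Hm_comp dl)
open Groth.Agent.H10Coh (shF)

namespace Groth.Agent.H10Coh.Kunneth

attribute [local instance 10000] H10Coh.hasSheafifyAb H10Coh.hasWeakSheafifyAb H10Coh.hasExtAb H10Coh.enoughInjAb

section seq

variable {Z : Scheme.{u}} {S : ShortComplex Z.Modules} (hS : S.ShortExact) (q : ℕ)

include hS in
theorem exact_Hm : Function.Exact (Hm S.f q) (Hm S.g q) := fun x =>
  ⟨LeadFF.exists_Hm_f hS q x, by rintro ⟨y, rfl⟩; rw [← Hm_comp, S.zero, LeadFF.Hm_zero]⟩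

theorem exact_Hm_dl : Function.Exact (Hm S.g q) (dl hS q) := fun x =>
  ⟨LeadFF.exists_Hm_g hS q x, by
    rintro ⟨y, rfl⟩
    exact (Ext.comp_assoc_of_second_deg_zero _ _ _ _).trans
      ((congrArg (fun z => Ext.comp y z (rfl : q + 1 = q + 1)) (H10Coh.shortExact_sh hS).comp_extClass).trans
        (Ext.comp_zero y _ _ _ rfl))⟩

theorem exact_dl_Hm : Function.Exact (dl hS q) (Hm S.f (q + 1)) := fun x =>
  ⟨HHSeq.exists_dl hS q x, by
    rintro ⟨y, rfl⟩
    exact (Ext.comp_assoc_of_third_deg_zero _ _ _ _).trans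
      ((congrArg (fun z => Ext.comp y z (rfl : q + 1 = q + 1)) (H10Coh.shortExact_sh hS).extClass_comp).trans
        (Ext.comp_zero y _ _ _ rfl))⟩

end seq

variable {Y : Scheme.{u}} [HasExt.{u} Y.Modules] {A : Type u} [CommRing A] [Y.Over (Spec (CommRingCat.of A))]
  {X : Scheme.{u}} [X.Over (Spec (CommRingCat.of A))]
  (Φ : Y.Modules ⥤ X.Modules) [Φ.Additive] [PreservesFiniteLimits Φ] [PreservesFiniteColimits Φ]
  (hΦ : ∀ (G : Y.Modules) (a : A), Φ.map (Formal.smulMod A G a) = Formal.smulMod A (Φ.obj G) a)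

variable (A) in
/-- Maps on cohomology are inverse to each other for a retraction. -/
theorem Hm_retract {Z : Scheme.{u}} (n : ℕ) {G G' : Z.Modules} (i : G ⟶ G') (r : G' ⟶ G) (hir : i ≫ r = 𝟙 G)
    (x : Coh.HH Z G n) : Hm r n (Hm i n x) = x := by
  rw [← Hm_comp, hir, LeadFF.Hm_id]

variable {P : ℕ → Type u} [∀ p, AddCommGroup (P p)] [∀ p, Module A (P p)]
  (ε : ∀ p, P p →ₗ[A] Coh.HH X (Φ.obj (Coh.structureModule Y)) p)

include hΦ in
/-- The Künneth data of `Φ`. -/
def kData : KData Y.Modules A P where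
  E q G := ModuleCat.of A (Coh.HH Y G q)
  W n G := ModuleCat.of A (Coh.HH X (Φ.obj G) n)
  mE q {_ _} φ := Canon.HHlin A φ q
  mW n {_ _} φ := Canon.HHlin A (Φ.map φ) n
  mE_retract q {_ _} i r h x := Hm_retract q i r h x
  mW_retract n {_ _} i r h x := Hm_retract n (Φ.map i) (Φ.map r) (by rw [← Φ.map_comp, h, Φ.map_id]) x
  dE {_} h q := HHSeq.dlₗ h q
  dW {_} h n := HHSeq.dlₗ (h.map_of_exact Φ) n
  exE₂ {_} h q := exact_Hm h q
  exE₃ {_} h q := exact_Hm_dl h q
  exE₁ {_} h q := exact_dl_Hm h q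
  injE {_} h := HHSeq.injective_Hm_zero h
  exW₂ {_} h n := exact_Hm (h.map_of_exact Φ) n
  exW₃ {_} h n := exact_Hm_dl (h.map_of_exact Φ) n
  exW₁ {_} h n := exact_dl_Hm (h.map_of_exact Φ) n
  injW {_} h := HHSeq.injective_Hm_zero (h.map_of_exact Φ)
  θ G p q n h := (cup Φ hΦ h G).comp (ε p)
  θ_natural {_ _} φ p q x y := (cupAdd_natural Φ (rfl : p + q = p + q) φ (ε p x) y).symm
  θ_d {_} h p q x y := (cupAdd_dl Φ (rfl : p + q = p + q) (rfl : p + (q + 1) = p + q + 1) h (ε p x) y).symm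

theorem kData_θ (G : Y.Modules) (p q n : ℕ) (h : p + q = n) (x : P p) (y : Coh.HH Y G q) :
    (kData Φ hΦ ε).θ G p q n h x y = cupAdd Φ h G (ε p x) y := rfl

end Groth.Agent.H10Coh.Kunneth
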